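import Cfsg.Agent.Lib.SemisimpleClass.Similar
import Cfsg.Agent.Lib.PrimeClasses.Count
import Cfsg.Agent.Lib.Maximal99.ConjTools

set_option autoImplicit false

/-!
Semisimple classes and characteristic polynomials: matrices, the passage to an element of order prime to the
characteristic with the same characteristic polynomial, monic polynomials, and the general and special linear
groups.
-/

namespace CfsgLib.SemisimpleClass

open Polynomial Matrix

variable {F : Type*} [Field F]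

theorem similar_of_charpoly_eq {ι : Type*} [Fintype ι] [DecidableEq ι] {N : ℕ} (hN : (N : F) ≠ 0)
    (X Y : Matrix ι ι F) (hX : X ^ N = 1) (hY : Y ^ N = 1) (h : X.charpoly = Y.charpoly) :
    ∃ g : GL ι F, (g : Matrix ι ι F) * X = Y * (g : Matrix ι ι F) := by
  have hpow : ∀ Z : Matrix ι ι F, Z ^ N = 1 → (Matrix.toLinAlgEquiv' Z) ^ N = 1 := fun Z hZ => by
    rw [← map_pow, hZ, map_one]
  have hch : ∀ Z : Matrix ι ι F, LinearMap.charpoly (Matrix.toLinAlgEquiv' Z) = Z.charpoly := fun Z => by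
    rw [← LinearMap.charpoly_toMatrix _ (Pi.basisFun F ι)]
    congr 1
    rw [LinearMap.toMatrix_eq_toMatrix']
    exact LinearMap.toMatrix'_toLin' Z
  obtain ⟨e, he⟩ := exists_equiv_of_charpoly_eq hN _ (ι → F) (ι → F) (Matrix.toLinAlgEquiv' X)
    (Matrix.toLinAlgEquiv' Y) rfl (hpow X hX) (hpow Y hY) (by rw [hch, hch, h])
  let g : GL ι F := ⟨LinearMap.toMatrix' e.toLinearMap, LinearMap.toMatrix' e.symm.toLinearMap,
    by rw [← LinearMap.toMatrix'_comp, LinearEquiv.comp_symm, LinearMap.toMatrix'_id],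
    by rw [← LinearMap.toMatrix'_comp, LinearEquiv.symm_comp, LinearMap.toMatrix'_id]⟩
  refine ⟨g, Matrix.ext_of_mulVec_single fun j => ?_⟩
  show (LinearMap.toMatrix' e.toLinearMap * X) *ᵥ _ = (Y * LinearMap.toMatrix' e.toLinearMap) *ᵥ _
  rw [← mulVec_mulVec, ← mulVec_mulVec, LinearMap.toMatrix'_mulVec, LinearMap.toMatrix'_mulVec]
  exact he _

theorem natCast_ne_zero_of_coprime (p : ℕ) [Fact p.Prime] [CharP F p] {N : ℕ} (h : N.Coprime p) :
    (N : F) ≠ 0 := fun h0 => by
  rw [CharP.cast_eq_zero_iff F p] at h0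
  exact (Fact.out : p.Prime).not_dvd_one (h ▸ Nat.dvd_gcd h0 (dvd_refl p))

/-- Two elements of order prime to the characteristic, as matrices killed by one exponent. -/
theorem exists_common_exponent (p : ℕ) [Fact p.Prime] [CharP F p] {G : Type*} [Group G] {ι : Type*} [Fintype ι]
    [DecidableEq ι] (φ : G →* Matrix ι ι F) (g h : G) (hg : (orderOf g).Coprime p) (hh : (orderOf h).Coprime p) :
    ∃ N : ℕ, (N : F) ≠ 0 ∧ φ g ^ N = 1 ∧ φ h ^ N = 1 := by
  refine ⟨orderOf g * orderOf h, natCast_ne_zero_of_coprime p (Nat.Coprime.mul_left hg hh), ?_, ?_⟩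
  · rw [← map_pow, pow_mul, pow_orderOf_eq_one, one_pow, map_one]
  · rw [← map_pow, mul_comm, pow_mul, pow_orderOf_eq_one, one_pow, map_one]

variable [Fintype F]

theorem charpoly_pow_card_pow {ι : Type*} [Fintype ι] [DecidableEq ι] (M : Matrix ι ι F) (j : ℕ) :
    (M ^ Fintype.card F ^ j).charpoly = M.charpoly := by
  induction j with
  | zero => simp
  | succ j ih => rw [pow_succ, pow_mul, FiniteField.Matrix.charpoly_pow_card, ih]

/-- Some power has order prime to the characteristic and the same characteristic polynomial. -/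
theorem exists_semisimple (p : ℕ) [Fact p.Prime] [CharP F p] {G : Type*} [Group G] [Finite G] {ι : Type*}
    [Fintype ι] [DecidableEq ι] (φ : G →* Matrix ι ι F) (g : G) :
    ∃ s : G, (orderOf s).Coprime p ∧ (φ s).charpoly = (φ g).charpoly := by
  have hp : p.Prime := Fact.out
  obtain ⟨f, -, hf⟩ := FiniteField.card F p
  obtain ⟨a, m, hm, he⟩ := Nat.exists_eq_pow_mul_and_not_dvd (orderOf_pos g).ne' p hp.ne_one
  refine ⟨g ^ Fintype.card F ^ a, ?_, by rw [map_pow, charpoly_pow_card_pow]⟩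
  have hdvd : orderOf (g ^ Fintype.card F ^ a) ∣ m := by
    refine orderOf_dvd_of_pow_eq_one ?_
    rw [← pow_mul]
    refine orderOf_dvd_iff_pow_eq_one.mp ?_
    rw [he]
    refine Nat.mul_dvd_mul_right ?_ m
    rw [hf, ← pow_mul]
    exact pow_dvd_pow p (Nat.le_mul_of_pos_left a f.pos)
  exact Nat.Coprime.coprime_dvd_left hdvd ((hp.coprime_iff_not_dvd.mpr hm).symm)

/-- The matrix of multiplication by a root: characteristic polynomial `f`. -/
theorem exists_charpoly_eq (n : ℕ) (f : F[X]) (hf : f.Monic) (hn : f.natDegree = n) :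
    ∃ M : Matrix (Fin n) (Fin n) F, M.charpoly = f := by
  subst hn
  let pb := AdjoinRoot.powerBasis hf.ne_zero
  have hd : pb.dim = f.natDegree := AdjoinRoot.powerBasis_dim hf.ne_zero
  refine ⟨Matrix.reindex (finCongr hd) (finCongr hd) (Algebra.leftMulMatrix pb.basis pb.gen), ?_⟩
  rw [Matrix.charpoly_reindex, charpoly_leftMulMatrix, AdjoinRoot.minpoly_powerBasis_gen_of_monic hf]

/-- The monic polynomial with given lower coefficients. -/
noncomputable def mkPoly {n : ℕ} (v : Fin n → F) : F[X] := X ^ n + ∑ i, C (v i) * X ^ (i : ℕ)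

omit [Fintype F] in
theorem coeff_mkPoly {n : ℕ} (v : Fin n → F) (i : Fin n) : (mkPoly v).coeff i = v i := by
  rw [mkPoly, coeff_add, finset_sum_coeff, coeff_X_pow, if_neg (Nat.ne_of_lt i.2), zero_add,
    Finset.sum_eq_single i (fun j _ hj => by
      rw [coeff_C_mul_X_pow, if_neg (fun e => hj (Fin.ext e.symm))]) (by simp)]
  simp

omit [Fintype F] in
theorem mkPoly_monic {n : ℕ} (v : Fin n → F) : (mkPoly v).Monic ∧ (mkPoly v).natDegree = n := by
  have h : (∑ i, C (v i) * X ^ (i : ℕ) : F[X]).degree < n := Polynomial.degree_sum_fin_lt v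
  refine ⟨monic_X_pow_add h, ?_⟩
  rw [mkPoly]
  refine natDegree_eq_of_degree_eq_some ?_
  rw [degree_add_eq_left_of_degree_lt (by rwa [degree_X_pow]), degree_X_pow]

omit [Fintype F] in
theorem mkPoly_injective {n : ℕ} : Function.Injective (mkPoly (F := F) (n := n)) := fun v w h =>
  funext fun i => by rw [← coeff_mkPoly v i, h, coeff_mkPoly]

omit [Fintype F] in
theorem mkPoly_surj {n : ℕ} {f : F[X]} (hf : f.Monic) (hn : f.natDegree = n) :
    mkPoly (fun i : Fin n => f.coeff i) = f := by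
  subst hn
  conv_rhs => rw [hf.as_sum]
  rw [mkPoly, Fin.sum_univ_eq_sum_range (fun i => C (f.coeff i) * X ^ i)]

omit [Fintype F] in
theorem card_monic {n : ℕ} (Q : F[X] → Prop) :
    Nat.card {f : F[X] // f.Monic ∧ f.natDegree = n ∧ Q f} = Nat.card {v : Fin n → F // Q (mkPoly v)} := by
  refine (Nat.card_eq_of_bijective (fun v => ⟨mkPoly v.1, (mkPoly_monic v.1).1, (mkPoly_monic v.1).2, v.2⟩)
    ⟨fun v w h => Subtype.ext (mkPoly_injective (congrArg Subtype.val h)), fun f => ?_⟩).symm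
  refine ⟨⟨fun i => f.1.coeff i, ?_⟩, Subtype.ext (mkPoly_surj f.2.1 f.2.2.1)⟩
  rw [mkPoly_surj f.2.1 f.2.2.1]
  exact f.2.2.2

theorem coeff_mkPoly_zero {m : ℕ} (v : Fin (m + 1) → F) : (mkPoly v).coeff 0 = v 0 :=
  coeff_mkPoly v 0

theorem card_GL_semisimple_classes {q : ℕ} (hq : Fintype.card F = q) (p : ℕ) [Fact p.Prime] [CharP F p] (n : ℕ)
    (hn : 1 ≤ n) :
    Nat.card {c : ConjClasses (GL (Fin n) F) // ∃ g : GL (Fin n) F, ConjClasses.mk g = c ∧ (orderOf g).Coprime p} =
      (q - 1) * q ^ (n - 1) := by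
  classical
  let φ : GL (Fin n) F →* Matrix (Fin n) (Fin n) F := Units.coeHom _
  rw [PrimeClasses.card_classes (G := GL (Fin n) F) (fun g => (orderOf g).Coprime p)
    (fun g => (φ g).charpoly) (fun f => f.Monic ∧ f.natDegree = n ∧ f.coeff 0 ≠ 0) ?_ ?_ ?_ ?_]
  · rw [card_monic (fun f => f.coeff 0 ≠ 0)]
    obtain ⟨m, rfl⟩ : ∃ m, n = m + 1 := ⟨n - 1, by omega⟩
    let e : {v : Fin (m + 1) → F // (mkPoly v).coeff 0 ≠ 0} ≃ Fˣ × (Fin m → F) :=
      { toFun := fun v => (Units.mk0 (v.1 0) (by have := v.2; rwa [coeff_mkPoly_zero] at this), Fin.tail v.1)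
        invFun := fun w => ⟨Fin.cons (w.1 : F) w.2, by
          rw [coeff_mkPoly_zero, Fin.cons_zero]; exact w.1.ne_zero⟩
        left_inv := fun v => Subtype.ext (Fin.cons_self_tail v.1)
        right_inv := fun w => by simp }
    rw [Nat.card_congr e, Nat.card_prod, Nat.card_units, Nat.card_eq_fintype_card, Nat.card_fun,
      Nat.card_eq_fintype_card, Nat.card_fin, hq, Nat.add_sub_cancel]
  · intro x y _ h
    obtain ⟨c, rfl⟩ := isConj_iff.mp h
    show _ = Matrix.charpoly ((c : Matrix (Fin n) (Fin n) F) * (x : Matrix (Fin n) (Fin n) F) * ((c⁻¹ : GL (Fin n) F) : Matrix (Fin n) (Fin n) F))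
    rw [Matrix.coe_units_inv, Matrix.charpoly_units_conj]
    rfl
  · intro x y hx hy h
    obtain ⟨N, hN, hxN, hyN⟩ := exists_common_exponent p φ x y hx hy
    obtain ⟨g, hg⟩ := similar_of_charpoly_eq hN _ _ hxN hyN h
    refine isConj_iff.mpr ⟨g, ?_⟩
    rw [mul_inv_eq_iff_eq_mul]
    exact Units.ext hg
  · intro x _
    refine ⟨Matrix.charpoly_monic _, by rw [Matrix.charpoly_natDegree_eq_dim, Fintype.card_fin], fun h => ?_⟩
    have := (Matrix.isUnit_iff_isUnit_det _).mp x.isUnit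
    rw [Matrix.det_eq_sign_charpoly_coeff] at this
    rw [show (x : Matrix (Fin n) (Fin n) F).charpoly.coeff 0 = 0 from h, mul_zero, isUnit_zero_iff] at this
    exact zero_ne_one this
  · rintro f ⟨hf, hfn, hf0⟩
    obtain ⟨M, hM⟩ := exists_charpoly_eq n f hf hfn
    have hdet : M.det ≠ 0 := by
      rw [Matrix.det_eq_sign_charpoly_coeff, hM]
      exact mul_ne_zero (pow_ne_zero _ (neg_ne_zero.mpr one_ne_zero)) hf0
    obtain ⟨s, hs, hsc⟩ := exists_semisimple p φ (Matrix.GeneralLinearGroup.mkOfDetNeZero M hdet)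
    exact ⟨s, hs, hsc.trans hM⟩

theorem SL_isConj_of_charpoly_eq (p : ℕ) [Fact p.Prime] [CharP F p] (n : ℕ)
    (g h : Matrix.SpecialLinearGroup (Fin n) F) (hg : (orderOf g).Coprime p) (hh : (orderOf h).Coprime p)
    (hc : (g : Matrix (Fin n) (Fin n) F).charpoly = (h : Matrix (Fin n) (Fin n) F).charpoly) : IsConj g h := by
  rcases Nat.eq_zero_or_pos n with rfl | hn
  · rw [Subsingleton.elim g h]
  haveI : Nonempty (Fin n) := ⟨⟨0, hn⟩⟩
  let φ : Matrix.SpecialLinearGroup (Fin n) F →* Matrix (Fin n) (Fin n) F :=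
    { toFun := fun a => a.1, map_one' := rfl, map_mul' := fun _ _ => rfl }
  obtain ⟨N, hN, hgN, hhN⟩ := exists_common_exponent p φ g h hg hh
  obtain ⟨c, hc'⟩ := similar_of_charpoly_eq hN _ _ hgN hhN hc
  -- `c g = h c`; correct the determinant of `c` inside the centraliser of `g`
  obtain ⟨e, he, hed⟩ := exists_commute_det (Matrix.toLinAlgEquiv' (g : Matrix (Fin n) (Fin n) F)) hN
    (by rw [← map_pow, show (g : Matrix (Fin n) (Fin n) F) ^ N = 1 from hgN, map_one])
    (inv_ne_zero (((Matrix.isUnit_iff_isUnit_det _).mp c.isUnit).ne_zero))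
  let E : Matrix (Fin n) (Fin n) F := LinearMap.toMatrix' e.toLinearMap
  have hEg : E * (g : Matrix (Fin n) (Fin n) F) = (g : Matrix (Fin n) (Fin n) F) * E := by
    refine Matrix.ext_of_mulVec_single fun j => ?_
    rw [← mulVec_mulVec, ← mulVec_mulVec, LinearMap.toMatrix'_mulVec, LinearMap.toMatrix'_mulVec]
    exact he _
  have hdet : ((c : Matrix (Fin n) (Fin n) F) * E).det = 1 := by
    rw [Matrix.det_mul, LinearMap.det_toMatrix', hed]
    exact mul_inv_cancel₀ (((Matrix.isUnit_iff_isUnit_det _).mp c.isUnit).ne_zero)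
  let P : Matrix.SpecialLinearGroup (Fin n) F := ⟨(c : Matrix (Fin n) (Fin n) F) * E, hdet⟩
  refine isConj_iff.mpr ⟨P, ?_⟩
  rw [mul_inv_eq_iff_eq_mul]
  refine Subtype.ext ?_
  show (c : Matrix (Fin n) (Fin n) F) * E * (g : Matrix (Fin n) (Fin n) F) =
    (h : Matrix (Fin n) (Fin n) F) * ((c : Matrix (Fin n) (Fin n) F) * E)
  rw [mul_assoc, hEg, ← mul_assoc, show (c : Matrix (Fin n) (Fin n) F) * (g : Matrix (Fin n) (Fin n) F) = _ from hc',
    mul_assoc]
  rfl

theorem card_SL_semisimple_classes {q : ℕ} (hq : Fintype.card F = q) (p : ℕ) [Fact p.Prime] [CharP F p] (n : ℕ)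
    (hn : 1 ≤ n) :
    Nat.card {c : ConjClasses (Matrix.SpecialLinearGroup (Fin n) F) //
      ∃ g : Matrix.SpecialLinearGroup (Fin n) F, ConjClasses.mk g = c ∧ (orderOf g).Coprime p} = q ^ (n - 1) := by
  classical
  let φ : Matrix.SpecialLinearGroup (Fin n) F →* Matrix (Fin n) (Fin n) F :=
    { toFun := fun a => a.1, map_one' := rfl, map_mul' := fun _ _ => rfl }
  rw [PrimeClasses.card_classes (G := Matrix.SpecialLinearGroup (Fin n) F) (fun g => (orderOf g).Coprime p)
    (fun g => (φ g).charpoly) (fun f => f.Monic ∧ f.natDegree = n ∧ (-1) ^ n * f.coeff 0 = 1) ?_ ?_ ?_ ?_]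
  · rw [card_monic (fun f => (-1) ^ n * f.coeff 0 = 1)]
    obtain ⟨m, rfl⟩ : ∃ m, n = m + 1 := ⟨n - 1, by omega⟩
    let e : {v : Fin (m + 1) → F // (-1) ^ (m + 1) * (mkPoly v).coeff 0 = 1} ≃ (Fin m → F) :=
      { toFun := fun v => Fin.tail v.1
        invFun := fun w => ⟨Fin.cons ((-1 : F) ^ (m + 1)) w, by
          rw [coeff_mkPoly_zero, Fin.cons_zero, ← mul_pow, neg_one_mul, neg_neg,
            one_pow]⟩
        left_inv := fun v => Subtype.ext (by
          have h0 := v.2
          rw [coeff_mkPoly_zero] at h0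
          show Fin.cons ((-1 : F) ^ (m + 1)) (Fin.tail v.1) = v.1
          have : (-1 : F) ^ (m + 1) = v.1 0 := by
            calc (-1 : F) ^ (m + 1) = (-1) ^ (m + 1) * ((-1) ^ (m + 1) * v.1 0) := by rw [h0, mul_one]
              _ = v.1 0 := by rw [← mul_assoc, ← mul_pow, neg_one_mul, neg_neg, one_pow, one_mul]
          funext i
          refine Fin.cases ?_ (fun j => ?_) i
          · rw [Fin.cons_zero]; exact this
          · rw [Fin.cons_succ]; rfl)
        right_inv := fun w => by simp }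
    rw [Nat.card_congr e, Nat.card_fun, Nat.card_eq_fintype_card, Nat.card_fin, hq, Nat.add_sub_cancel]
  · intro x y _ h
    obtain ⟨c, rfl⟩ := isConj_iff.mp h
    let cu : (Matrix (Fin n) (Fin n) F)ˣ := (Matrix.SpecialLinearGroup.toGL c)
    show _ = Matrix.charpoly ((cu : Matrix (Fin n) (Fin n) F) * (x : Matrix (Fin n) (Fin n) F) * ((cu⁻¹ : (Matrix (Fin n) (Fin n) F)ˣ) : Matrix (Fin n) (Fin n) F))
    rw [Matrix.coe_units_inv, Matrix.charpoly_units_conj]
    rfl
  · exact fun x y hx hy h => SL_isConj_of_charpoly_eq p n x y hx hy h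
  · intro x _
    refine ⟨Matrix.charpoly_monic _, by rw [Matrix.charpoly_natDegree_eq_dim, Fintype.card_fin], ?_⟩
    have h1 : (φ x).det = 1 := x.2
    rwa [Matrix.det_eq_sign_charpoly_coeff, Fintype.card_fin] at h1
  · rintro f ⟨hf, hfn, hf0⟩
    obtain ⟨M, hM⟩ := exists_charpoly_eq n f hf hfn
    have hdet : M.det = 1 := by rw [Matrix.det_eq_sign_charpoly_coeff, hM, Fintype.card_fin, hf0]
    obtain ⟨s, hs, hsc⟩ := exists_semisimple p φ ⟨M, hdet⟩
    exact ⟨s, hs, hsc.trans hM⟩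

end CfsgLib.SemisimpleClass
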