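import Mathlib

set_option autoImplicit false

/-!
Semisimple endomorphisms of finite order prime to the characteristic are determined up to similarity by their
characteristic polynomial.
-/

namespace CfsgLib.SemisimpleClass

open Polynomial Module

variable {F : Type*} [Field F]

section
variable {V : Type*} [AddCommGroup V] [Module F V]

theorem isSemisimple_of_pow_eq_one (x : Module.End F V) {N : ℕ} (hN : (N : F) ≠ 0) (hx : x ^ N = 1) :
    x.IsSemisimple :=
  Module.End.isSemisimple_of_squarefree_aeval_eq_zero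
    (p := X ^ N - C 1) (separable_X_pow_sub_C 1 hN one_ne_zero).squarefree
    (by simp [hx])

theorem exists_invariant_compl (x : Module.End F V) {N : ℕ} (hN : (N : F) ≠ 0) (hx : x ^ N = 1)
    (S : Submodule F V) (hS : ∀ v ∈ S, x v ∈ S) :
    ∃ T : Submodule F V, (∀ v ∈ T, x v ∈ T) ∧ IsCompl S T := by
  obtain ⟨T, hT, hc⟩ := Module.End.isSemisimple_iff.mp (isSemisimple_of_pow_eq_one x hN hx) S
    ((Module.End.mem_invtSubmodule x).mpr hS)
  exact ⟨T, (Module.End.mem_invtSubmodule x).mp hT, hc⟩

theorem restrict_pow_eq_one (x : Module.End F V) {N : ℕ} (hx : x ^ N = 1) (S : Submodule F V)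
    (hS : ∀ v ∈ S, x v ∈ S) : (x.restrict hS) ^ N = 1 := by
  have h : ∀ k : ℕ, ∀ z : S, ((x.restrict hS) ^ k) z = (x ^ k) (z : V) := by
    intro k
    induction k with
    | zero => intro z; simp
    | succ k ih => intro z; rw [pow_succ, Module.End.mul_apply, ih, pow_succ, Module.End.mul_apply]; rfl
  refine LinearMap.ext fun z => Subtype.ext ?_
  rw [h, hx]
  rfl

variable [FiniteDimensional F V]

/-- The decomposition along two invariant complements. -/
theorem conj_prodMap (x : Module.End F V) {S T : Submodule F V} (hS : ∀ v ∈ S, x v ∈ S)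
    (hT : ∀ v ∈ T, x v ∈ T) (hc : IsCompl S T) :
    (Submodule.prodEquivOfIsCompl S T hc).conj ((x.restrict hS).prodMap (x.restrict hT)) = x := by
  refine LinearMap.ext fun v => ?_
  obtain ⟨p, rfl⟩ := (Submodule.prodEquivOfIsCompl S T hc).surjective v
  rw [LinearEquiv.conj_apply_apply, LinearEquiv.symm_apply_apply]
  simp

theorem charpoly_restrict_mul (x : Module.End F V) {S T : Submodule F V} (hS : ∀ v ∈ S, x v ∈ S)
    (hT : ∀ v ∈ T, x v ∈ T) (hc : IsCompl S T) :
    x.charpoly = (x.restrict hS).charpoly * (x.restrict hT).charpoly := by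
  conv_lhs => rw [← conj_prodMap x hS hT hc]
  rw [LinearEquiv.charpoly_conj, LinearMap.charpoly_prodMap]

/-- An irreducible factor of the characteristic polynomial kills a non-zero vector. -/
theorem exists_ker_of_dvd_charpoly (x : Module.End F V) {g : F[X]} (hg : Irreducible g)
    (hdvd : g ∣ x.charpoly) : ∃ v : V, v ≠ 0 ∧ aeval x g v = 0 := by
  classical
  haveI := Fact.mk hg
  let b := Module.finBasis F V
  let M := LinearMap.toMatrix b b x
  let L := AdjoinRoot g
  let φ : F →+* L := AdjoinRoot.of g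
  let a : L := AdjoinRoot.root g
  have ha : (M.map φ).charpoly.eval a = 0 := by
    rw [Matrix.charpoly_map, eval_map, LinearMap.charpoly_toMatrix]
    obtain ⟨h, hh⟩ := hdvd
    rw [hh, eval₂_mul, AdjoinRoot.eval₂_root, zero_mul]
  rw [Matrix.eval_charpoly, ← Matrix.exists_mulVec_eq_zero_iff] at ha
  obtain ⟨w, hw, hw0⟩ := ha
  have heig : (M.map φ).mulVec w = a • w := by
    rw [Matrix.sub_mulVec, sub_eq_zero] at hw0
    rw [← hw0]
    ext i
    simp [Matrix.scalar_apply, Matrix.mulVec_diagonal]
  have hpow : ∀ h : F[X], ((aeval M h).map φ).mulVec w = (h.eval₂ φ a) • w := by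
    intro h
    induction h using Polynomial.induction_on with
    | C c =>
      rw [aeval_C, eval₂_C]
      ext i
      simp [Matrix.algebraMap_eq_diagonal, Matrix.mulVec_diagonal]
    | add p q hp hq =>
      rw [map_add, Matrix.map_add _ (map_add φ), Matrix.add_mulVec, hp, hq, eval₂_add, add_smul]
    | monomial k c ih =>
      have e : C c * X ^ (k + 1) = C c * X ^ k * X := by ring
      rw [e, map_mul, aeval_X, Matrix.map_mul, ← Matrix.mulVec_mulVec, heig, Matrix.mulVec_smul, ih,
        eval₂_mul, eval₂_mul, eval₂_X, smul_smul]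
      congr 1
      simp only [eval₂_mul]
      ring
  have hdet : ((aeval M g).map φ).det = 0 :=
    Matrix.exists_mulVec_eq_zero_iff.mp ⟨w, hw, by rw [hpow, AdjoinRoot.eval₂_root, zero_smul]⟩
  have hdet' : (aeval x g).det = 0 := by
    rw [← LinearMap.det_toMatrix b]
    have h1 : LinearMap.toMatrix b b (aeval x g) = aeval M g :=
      (Polynomial.aeval_algHom_apply (LinearMap.toMatrixAlgEquiv b).toAlgHom x g).symm
    rw [h1]
    have h2 : φ (aeval M g).det = 0 := by rw [RingHom.map_det]; exact hdet
    exact φ.injective (h2.trans (map_zero φ).symm)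
  have hker := LinearMap.det_eq_zero_iff_ker_ne_bot.mp hdet'
  obtain ⟨v, hv, hv0⟩ := Submodule.exists_mem_ne_zero_of_ne_bot hker
  exact ⟨v, hv0, hv⟩

/-- The cyclic subspace of a vector killed by an irreducible polynomial is a copy of the field it defines. -/
theorem exists_cyclic_embed (x : Module.End F V) {g : F[X]} (hg : Irreducible g) {v : V} (hv0 : v ≠ 0)
    (hv : aeval x g v = 0) :
    ∃ φ : AdjoinRoot g →ₗ[F] V, Function.Injective φ ∧ φ 1 = v ∧
      ∀ z, x (φ z) = φ (AdjoinRoot.root g * z) := by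
  haveI := Fact.mk hg
  let ev : F[X] →ₗ[F] V := (LinearMap.applyₗ v).comp (aeval x).toLinearMap
  let I : Submodule F F[X] := (Ideal.span {g}).restrictScalars F
  have hI : I ≤ LinearMap.ker ev := by
    intro h hh
    obtain ⟨k, rfl⟩ := Ideal.mem_span_singleton'.mp hh
    show aeval x (k * g) v = 0
    rw [map_mul, Module.End.mul_apply, hv, map_zero]
  let mkL : F[X] →ₗ[F] AdjoinRoot g := (AdjoinRoot.mkₐ g).toLinearMap
  have hsurj : Function.Surjective mkL := AdjoinRoot.mk_surjective
  have hker : LinearMap.ker mkL ≤ LinearMap.ker ev := by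
    intro h hh
    have : g ∣ h := AdjoinRoot.mk_eq_zero.mp hh
    exact hI (Ideal.mem_span_singleton.mpr this)
  let φ : AdjoinRoot g →ₗ[F] V :=
    (Submodule.liftQ _ ev hker).comp (LinearMap.quotKerEquivOfSurjective mkL hsurj).symm.toLinearMap
  have hφ : ∀ h : F[X], φ (AdjoinRoot.mk g h) = aeval x h v := fun h => by
    show (Submodule.liftQ _ ev hker) ((LinearMap.quotKerEquivOfSurjective mkL hsurj).symm (mkL h)) = _
    rw [show (LinearMap.quotKerEquivOfSurjective mkL hsurj).symm (mkL h) = Submodule.Quotient.mk h from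
      (LinearEquiv.symm_apply_eq _).mpr rfl]
    rfl
  refine ⟨φ, (injective_iff_map_eq_zero φ).mpr fun z hz => ?_, ?_, fun z => ?_⟩
  · obtain ⟨h, rfl⟩ := AdjoinRoot.mk_surjective z
    rw [hφ] at hz
    by_contra hne
    obtain ⟨a, b, hab⟩ := (hg.coprime_iff_not_dvd).mpr fun hd => hne (AdjoinRoot.mk_eq_zero.mpr hd)
    have := congrArg (fun p => aeval x p v) hab
    simp only [map_add, map_mul, map_one, LinearMap.add_apply, Module.End.mul_apply, hv, hz, map_zero,
      add_zero, Module.End.one_apply] at this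
    exact hv0 this.symm
  · rw [← map_one (AdjoinRoot.mk g), hφ, map_one, Module.End.one_apply]
  · obtain ⟨h, rfl⟩ := AdjoinRoot.mk_surjective z
    rw [← AdjoinRoot.mk_X, ← map_mul, hφ, hφ, map_mul, aeval_X, Module.End.mul_apply]

end

universe u v w

/-- Two such endomorphisms with the same characteristic polynomial are similar. -/
theorem exists_equiv_of_charpoly_eq {F : Type u} [Field F] {N : ℕ} (hN : (N : F) ≠ 0) :
    ∀ (d : ℕ) (V : Type v) [AddCommGroup V] [Module F V] [FiniteDimensional F V] (W : Type w)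
      [AddCommGroup W] [Module F W] [FiniteDimensional F W] (x : Module.End F V) (y : Module.End F W),
      finrank F V = d → x ^ N = 1 → y ^ N = 1 → x.charpoly = y.charpoly →
      ∃ e : V ≃ₗ[F] W, ∀ z, e (x z) = y (e z) := by
  classical
  intro d
  induction d using Nat.strong_induction_on with
  | _ d ih =>
    intro V _ _ _ W _ _ _ x y hd hx hy hxy
    have hdW : finrank F W = d := by
      rw [← LinearMap.charpoly_natDegree y, ← hxy, LinearMap.charpoly_natDegree x, hd]
    rcases Nat.eq_zero_or_pos d with rfl | hpos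
    · haveI : Subsingleton V := Module.finrank_zero_iff.mp hd
      haveI : Subsingleton W := Module.finrank_zero_iff.mp hdW
      exact ⟨LinearEquiv.ofSubsingleton V W, fun z => Subsingleton.elim _ _⟩
    obtain ⟨g, hgm, hg, hdvd⟩ := Polynomial.exists_monic_irreducible_factor x.charpoly (fun h => by
      have := Polynomial.natDegree_eq_zero_of_isUnit h
      rw [LinearMap.charpoly_natDegree, hd] at this
      omega)
    haveI := Fact.mk hg
    haveI : FiniteDimensional F (AdjoinRoot g) := (AdjoinRoot.powerBasis hg.ne_zero).finite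
    obtain ⟨v, hv0, hv⟩ := exists_ker_of_dvd_charpoly x hg hdvd
    obtain ⟨w, hw0, hw⟩ := exists_ker_of_dvd_charpoly y hg (hxy ▸ hdvd)
    obtain ⟨φ, hφi, hφ1, hφ⟩ := exists_cyclic_embed x hg hv0 hv
    obtain ⟨ψ, hψi, hψ1, hψ⟩ := exists_cyclic_embed y hg hw0 hw
    have hSx : ∀ z ∈ LinearMap.range φ, x z ∈ LinearMap.range φ := by
      rintro _ ⟨z, rfl⟩; exact ⟨_, (hφ z).symm⟩
    have hSy : ∀ z ∈ LinearMap.range ψ, y z ∈ LinearMap.range ψ := by
      rintro _ ⟨z, rfl⟩; exact ⟨_, (hψ z).symm⟩
    let ex := LinearEquiv.ofInjective φ hφi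
    let ey := LinearEquiv.ofInjective ψ hψi
    let e₁ : LinearMap.range φ ≃ₗ[F] LinearMap.range ψ := ex.symm.trans ey
    have he₁ : ∀ z, e₁ (x.restrict hSx z) = y.restrict hSy (e₁ z) := by
      intro z
      obtain ⟨z, rfl⟩ := ex.surjective z
      have h1 : x.restrict hSx (ex z) = ex (AdjoinRoot.root g * z) := Subtype.ext (hφ z)
      have h2 : y.restrict hSy (ey z) = ey (AdjoinRoot.root g * z) := Subtype.ext (hψ z)
      simp only [e₁, LinearEquiv.trans_apply, h1, LinearEquiv.symm_apply_apply, h2]
    have hch₁ : (x.restrict hSx).charpoly = (y.restrict hSy).charpoly := by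
      rw [← LinearEquiv.charpoly_conj e₁ (x.restrict hSx)]
      congr 1
      refine LinearMap.ext fun z => ?_
      rw [LinearEquiv.conj_apply_apply, he₁, LinearEquiv.apply_symm_apply]
    obtain ⟨T, hT, hcT⟩ := exists_invariant_compl x hN hx _ hSx
    obtain ⟨T', hT', hcT'⟩ := exists_invariant_compl y hN hy _ hSy
    have hlt : finrank F T < d := by
      have h1 := Submodule.finrank_add_eq_of_isCompl hcT
      have h2 : 0 < finrank F (LinearMap.range φ) :=
        Module.finrank_pos_iff_exists_ne_zero.mpr ⟨⟨v, 1, hφ1⟩, fun h => hv0 (congrArg Subtype.val h)⟩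
      omega
    obtain ⟨e₂, he₂⟩ := ih _ hlt T T' (x.restrict hT) (y.restrict hT') rfl
      (restrict_pow_eq_one x hx T hT) (restrict_pow_eq_one y hy T' hT') (by
        have h1 := charpoly_restrict_mul x hSx hT hcT
        rw [hxy, charpoly_restrict_mul y hSy hT' hcT', hch₁] at h1
        exact (mul_left_cancel₀ (LinearMap.charpoly_monic _).ne_zero h1).symm)
    let P := Submodule.prodEquivOfIsCompl _ T hcT
    let P' := Submodule.prodEquivOfIsCompl _ T' hcT'
    refine ⟨(P.symm.trans (e₁.prodCongr e₂)).trans P', fun z => ?_⟩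
    obtain ⟨⟨a, b⟩, rfl⟩ := P.surjective z
    have h1 : x (P (a, b)) = P (x.restrict hSx a, x.restrict hT b) := by simp [P]
    have h2 : ∀ a' b', y (P' (a', b')) = P' (y.restrict hSy a', y.restrict hT' b') := fun a' b' => by simp [P']
    simp only [LinearEquiv.trans_apply, h1, LinearEquiv.symm_apply_apply, LinearEquiv.prodCongr_apply, h2,
      he₁, he₂]

/-- The centraliser of such an endomorphism of a non-zero space over a finite field has all determinants. -/
theorem exists_commute_det [Fintype F] {V : Type*} [AddCommGroup V] [Module F V] [FiniteDimensional F V]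
    [Nontrivial V] (x : Module.End F V) {N : ℕ} (hN : (N : F) ≠ 0) (hx : x ^ N = 1) {c : F} (hc : c ≠ 0) :
    ∃ e : V ≃ₗ[F] V, (∀ z, e (x z) = x (e z)) ∧ LinearMap.det e.toLinearMap = c := by
  classical
  obtain ⟨g, hgm, hg, hdvd⟩ := Polynomial.exists_monic_irreducible_factor x.charpoly (fun h => by
    have := Polynomial.natDegree_eq_zero_of_isUnit h
    rw [LinearMap.charpoly_natDegree] at this
    exact absurd this (Nat.pos_iff_ne_zero.mp Module.finrank_pos))
  haveI := Fact.mk hg
  haveI : FiniteDimensional F (AdjoinRoot g) := (AdjoinRoot.powerBasis hg.ne_zero).finite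
  haveI : Finite (AdjoinRoot g) := Module.finite_of_finite F
  obtain ⟨v, hv0, hv⟩ := exists_ker_of_dvd_charpoly x hg hdvd
  obtain ⟨φ, hφi, -, hφ⟩ := exists_cyclic_embed x hg hv0 hv
  have hS : ∀ z ∈ LinearMap.range φ, x z ∈ LinearMap.range φ := by
    rintro _ ⟨z, rfl⟩; exact ⟨_, (hφ z).symm⟩
  obtain ⟨T, hT, hcT⟩ := exists_invariant_compl x hN hx _ hS
  obtain ⟨u, hu⟩ := FiniteField.norm_surjective F (AdjoinRoot g) c
  have hu0 : u ≠ 0 := fun h => hc (by rw [← hu, h, Algebra.norm_zero])
  let m : AdjoinRoot g ≃ₗ[F] AdjoinRoot g :=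
    { LinearMap.mulLeft F u with
      invFun := fun z => u⁻¹ * z
      left_inv := fun z => by simp [← mul_assoc, hu0]
      right_inv := fun z => by simp [← mul_assoc, hu0] }
  let ex := LinearEquiv.ofInjective φ hφi
  let e₁ := (ex.symm.trans m).trans ex
  let P := Submodule.prodEquivOfIsCompl _ T hcT
  let e : V ≃ₗ[F] V := (P.symm.trans (e₁.prodCongr (LinearEquiv.refl F T))).trans P
  refine ⟨e, fun z => ?_, ?_⟩
  · obtain ⟨⟨a, b⟩, rfl⟩ := P.surjective z
    obtain ⟨a, rfl⟩ := ex.surjective a
    have h1 : ∀ a' b', x (P (a', b')) = P (x.restrict hS a', x.restrict hT b') := fun a' b' => by simp [P]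
    have h2 : ∀ a', x.restrict hS (ex a') = ex (AdjoinRoot.root g * a') := fun a' => Subtype.ext (hφ a')
    have h3 : ∀ a', m a' = u * a' := fun a' => rfl
    simp only [e, e₁, LinearEquiv.trans_apply, h1, h2, h3, LinearEquiv.symm_apply_apply,
      LinearEquiv.prodCongr_apply, LinearEquiv.refl_apply]
    rw [mul_left_comm]
  · have he : e.toLinearMap = P.conj (((ex.conj m.toLinearMap)).prodMap LinearMap.id) := by
      refine LinearMap.ext fun z => ?_
      simp [e, e₁, LinearEquiv.conj_apply]
    have hm : m.toLinearMap = Algebra.lmul F (AdjoinRoot g) u := rfl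
    rw [he, LinearEquiv.conj_apply, LinearMap.comp_assoc, LinearMap.det_conj, LinearMap.det_prodMap,
      LinearMap.det_id, mul_one, LinearEquiv.conj_apply, LinearMap.comp_assoc, LinearMap.det_conj, hm,
      ← Algebra.norm_apply, hu]

end CfsgLib.SemisimpleClass
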