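import Cfsg.Agent.Lib.SemisimpleClass.Classes
import Cfsg.Agent.Lib.IsomConj.Classical
import Cfsg.Agent.Lib.Sp.Decomp

set_option autoImplicit false

/-! Semisimple elements of `Sp_2n(q)` with one characteristic polynomial are conjugate in it. -/

namespace CfsgLib.SemisimpleClass

open Matrix CfsgLib.IsomConj Module
open LinearMap (BilinForm)

variable {F : Type*} [Field F]

/-- A non-degenerate alternating form lives in even dimension. -/
theorem exists_finrank_two_mul {V : Type*} [AddCommGroup V] [Module F V] [FiniteDimensional F V]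
    (B : BilinForm F V) (hA : B.IsAlt) (hB : LinearMap.SeparatingLeft B) : ∃ k, finrank F V = 2 * k := by
  obtain ⟨m, r, b, -, -, -, h4⟩ := Cfsg.Agent.S0752.result B hA
  rcases Nat.eq_zero_or_pos r with rfl | hr
  · refine ⟨m, ?_⟩
    have := Module.finrank_eq_card_basis b
    simp at this; omega
  · exact absurd (hB _ (h4 ⟨0, hr⟩)) (b.ne_zero _)

/-- Two non-degenerate alternating forms of one dimension are isometric. -/
theorem exists_alt_isometry {V W : Type*} [AddCommGroup V] [Module F V] [FiniteDimensional F V] [AddCommGroup W]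
    [Module F W] [FiniteDimensional F W] (B : BilinForm F V) (B' : BilinForm F W) (hA : B.IsAlt) (hA' : B'.IsAlt)
    (hB : LinearMap.SeparatingLeft B) (hB' : LinearMap.SeparatingLeft B') (h : finrank F V = finrank F W) :
    ∃ e : V ≃ₗ[F] W, ∀ u v, B' (e u) (e v) = B u v := by
  obtain ⟨k, hk⟩ := exists_finrank_two_mul B hA hB
  obtain ⟨e₁, he₁⟩ := Sp.exists_std_equiv B hA hB hk
  obtain ⟨e₂, he₂⟩ := Sp.exists_std_equiv B' hA' hB' (h ▸ hk)
  refine ⟨e₁.symm.trans e₂, fun u v => ?_⟩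
  rw [LinearEquiv.trans_apply, LinearEquiv.trans_apply, he₂, ← he₁, e₁.apply_symm_apply, e₁.apply_symm_apply]

variable {m : ℕ}

local notation "II" => (Fin m ⊕ Fin m)
local notation "JJ" => (Matrix.J (Fin m) F)

theorem sympBilin_mulVec (M N : Matrix (Fin m ⊕ Fin m) (Fin m ⊕ Fin m) F) (u v : Fin m ⊕ Fin m → F) :
    Sp.sympBilin m F (M *ᵥ u) (N *ᵥ v) = u ⬝ᵥ (Mᵀ * Matrix.J (Fin m) F * N) *ᵥ v := by
  rw [Sp.sympBilin_apply, Cfsg.sympForm, ← mulVec_mulVec, ← mulVec_mulVec, dotProduct_mulVec u Mᵀ,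
    vecMul_transpose]

variable [Fintype F]

/-- Semisimple elements of the symplectic group with one characteristic polynomial are conjugate. -/
theorem Sp_isConj_of_charpoly_eq (p : ℕ) [Fact p.Prime] [CharP F p]
    (g h : ↥(Matrix.symplecticGroup (Fin m) F)) (hg : (orderOf g).Coprime p) (hh : (orderOf h).Coprime p)
    (hc : (g : Matrix II II F).charpoly = (h : Matrix II II F).charpoly) : IsConj g h := by
  classical
  let φ : ↥(Matrix.symplecticGroup (Fin m) F) →* Matrix II II F :=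
    { toFun := fun a => a.1, map_one' := rfl, map_mul' := fun _ _ => rfl }
  obtain ⟨N, hN, hgN, hhN⟩ := exists_common_exponent p φ g h hg hh
  obtain ⟨s, hs⟩ := similar_of_charpoly_eq hN _ _ hgN hhN hc
  by_cases h2 : (2 : F) = 0
  · have hodd : Odd N := by
      rcases Nat.even_or_odd N with ⟨k, hk⟩ | h
      · exact absurd (by rw [hk, ← two_mul, Nat.cast_mul, Nat.cast_ofNat, h2, zero_mul]) hN
      · exact h
    exact Sp_isConj_of_similar hodd hN g h (Subtype.ext (by rw [SubmonoidClass.coe_pow]; exact hgN)) s hs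
  -- the exponent `2N`
  let r := 2 * N
  have hr : (r : F) ≠ 0 := by simp only [r, Nat.cast_mul, Nat.cast_ofNat]; exact mul_ne_zero h2 hN
  have hpow : ∀ X : Matrix II II F, X ^ N = 1 → X ^ r = 1 ∧ (-X) ^ r = 1 := fun X hX => by
    have h1 : X ^ r = 1 := by simp only [r]; rw [mul_comm, pow_mul, hX, one_pow]
    exact ⟨h1, by rw [show r = 2 * N from rfl, pow_mul, neg_sq, ← pow_mul]; exact h1⟩
  have hpres : ∀ w : ↥(Matrix.symplecticGroup (Fin m) F), w.1ᵀ * JJ * w.1 = JJ := fun w =>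
    SymplecticGroup.mem_iff'.1 w.2
  let neg : ↥(Matrix.symplecticGroup (Fin m) F) → Matrix II II F := fun w => 1 - movedProj r (-w.1)
  -- properties of the projection on the `-1` eigenspace
  have hprop : ∀ w : ↥(Matrix.symplecticGroup (Fin m) F), w.1 ^ N = 1 →
      neg w * neg w = neg w ∧ (neg w)ᵀ * JJ = JJ * neg w ∧ w.1 * neg w = -neg w ∧ neg w * w.1 = w.1 * neg w ∧
        ∀ v, w.1 *ᵥ v = -v → neg w *ᵥ v = v := by
    intro w hw
    have hneg : (-w.1)ᵀ * JJ * (-w.1) = JJ := by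
      rw [transpose_neg, Matrix.neg_mul, Matrix.neg_mul, Matrix.mul_neg, neg_neg]; exact hpres w
    obtain ⟨-, hnr⟩ := hpow w.1 hw
    have hid := movedProj_idem hr hnr
    refine ⟨?_, ?_, ?_, ?_, fun v hv => ?_⟩
    · simp only [neg, sub_mul, mul_sub, one_mul, mul_one, hid]; abel
    · simp only [neg, transpose_sub, transpose_one, sub_mul, mul_sub, one_mul, mul_one,
        transpose_movedProj_mul hneg hnr]
    · have h1 := mul_one_sub_movedProj hnr
      rw [Matrix.neg_mul] at h1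
      exact neg_eq_iff_eq_neg.mp h1
    · have h1 := movedProj_comm r (-w.1)
      rw [Matrix.neg_mul, Matrix.mul_neg, neg_inj] at h1
      simp only [neg, sub_mul, mul_sub, one_mul, mul_one, h1]
    · simp only [neg, movedProj, sub_sub_cancel, smul_mulVec, Matrix.sum_mulVec]
      have hi : ∀ i : ℕ, (-w.1) ^ i *ᵥ v = v := by
        intro i
        induction i with
        | zero => simp
        | succ i ih => rw [pow_succ, ← mulVec_mulVec, neg_mulVec, hv, neg_neg, ih]
      rw [Finset.sum_congr rfl fun i _ => hi i, Finset.sum_const, Finset.card_range, ← Nat.cast_smul_eq_nsmul F,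
        smul_smul, inv_mul_cancel₀ hr, one_smul]
  obtain ⟨hf2, hfJ, hXf, hfX, hfker⟩ := hprop g hgN
  obtain ⟨he2, heJ, hYe, heY, -⟩ := hprop h hhN
  set f := neg g with hfdef
  set e := neg h with hedef
  have hse : (s : Matrix II II F) * f = e * (s : Matrix II II F) := by
    have h1 := movedProj_conj (r := r) (x := -g.1) (y := -h.1) (k := (s : Matrix II II F))
      (k' := ((s⁻¹ : GL II F) : Matrix II II F)) (by
        show (s : Matrix II II F) * -g.1 = -h.1 * (s : Matrix II II F)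
        rw [Matrix.mul_neg, Matrix.neg_mul]; exact congrArg Neg.neg hs) (Units.mul_inv s)
    simp only [hfdef, hedef, neg, mul_sub, sub_mul, one_mul, mul_one, h1, mul_assoc, Units.inv_mul]
  -- the two `-1` eigenspaces are isometric
  let ω := Sp.sympBilin m F
  let P : Submodule F (II → F) := LinearMap.range (Matrix.toLin' f)
  let Q : Submodule F (II → F) := LinearMap.range (Matrix.toLin' e)
  have hself : ∀ (M : Matrix II II F), Mᵀ * JJ = JJ * M → ∀ u v, ω (M *ᵥ u) v = ω u (M *ᵥ v) := by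
    intro M hM u v
    have h1 := sympBilin_mulVec M 1 u v
    have h2 := sympBilin_mulVec 1 M u v
    rw [one_mulVec, Matrix.mul_one, hM] at h1
    rw [one_mulVec, transpose_one, Matrix.one_mul] at h2
    exact h1.trans h2.symm
  have hsep : ∀ (M : Matrix II II F), M * M = M → Mᵀ * JJ = JJ * M →
      LinearMap.SeparatingLeft (ω.restrict (LinearMap.range (Matrix.toLin' M))) := by
    rintro M hM2 hMJ ⟨u, hu⟩ h
    refine Subtype.ext (Sp.sympBilin_separatingLeft u fun v => ?_)
    obtain ⟨u', rfl⟩ := hu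
    have h1 : ω (M *ᵥ u') (M *ᵥ v) = 0 := h ⟨M *ᵥ v, v, rfl⟩
    rw [hself M hMJ, mulVec_mulVec, hM2, ← hself M hMJ] at h1
    exact h1
  have hdim : finrank F P = finrank F Q := by
    let S : (II → F) ≃ₗ[F] (II → F) :=
      { Matrix.toLin' (s : Matrix II II F) with
        invFun := fun v => ((s⁻¹ : GL II F) : Matrix II II F) *ᵥ v
        left_inv := fun v => by
          show _ *ᵥ ((s : Matrix II II F) *ᵥ v) = v
          rw [mulVec_mulVec, Units.inv_mul, one_mulVec]
        right_inv := fun v => by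
          show (s : Matrix II II F) *ᵥ (_ *ᵥ v) = v
          rw [mulVec_mulVec, Units.mul_inv, one_mulVec] }
    have hQ : P.map S.toLinearMap = Q := by
      refine le_antisymm ?_ ?_
      · rintro _ ⟨_, ⟨u, rfl⟩, rfl⟩
        exact ⟨(s : Matrix II II F) *ᵥ u, show e *ᵥ _ = (s : Matrix II II F) *ᵥ (f *ᵥ u) by
          rw [mulVec_mulVec, mulVec_mulVec, hse]⟩
      · rintro _ ⟨u, rfl⟩
        exact ⟨f *ᵥ (((s⁻¹ : GL II F) : Matrix II II F) *ᵥ u), ⟨_, rfl⟩,
          show (s : Matrix II II F) *ᵥ (f *ᵥ (_ *ᵥ u)) = e *ᵥ u by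
            rw [mulVec_mulVec, hse, ← mulVec_mulVec]; congr 1; rw [mulVec_mulVec, Units.mul_inv, one_mulVec]⟩
    rw [← hQ]
    exact (LinearEquiv.finrank_map_eq S P).symm
  obtain ⟨ψ, hψ⟩ := exists_alt_isometry (ω.restrict P) (ω.restrict Q) (fun v => Sp.sympBilin_isAlt v.1)
    (fun v => Sp.sympBilin_isAlt v.1) (hsep f hf2 hfJ) (hsep e he2 heJ) hdim
  obtain ⟨H, hH, hHψ⟩ := Sp.witt_extension Sp.sympBilin_isAlt Sp.sympBilin_separatingLeft P
    (Q.subtype.comp ψ.toLinearMap) (Subtype.val_injective.comp ψ.injective) (fun u v => hψ u v)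
  obtain ⟨Hm, rfl⟩ := Sp.exists_toEquiv_eq (Sp.transvGroup_le_isom hH)
  let y₁ : ↥(Matrix.symplecticGroup (Fin m) F) := Hm⁻¹ * h * Hm
  have hHinv : (Hm⁻¹).1 * Hm.1 = 1 := congrArg Subtype.val (inv_mul_cancel Hm)
  have hHinv' : Hm.1 * (Hm⁻¹).1 = 1 := congrArg Subtype.val (mul_inv_cancel Hm)
  have hy₁N : y₁.1 ^ N = 1 := by
    have h1 : y₁ ^ N = 1 := by
      rw [show y₁ ^ N = Hm⁻¹ * h ^ N * Hm from by simpa using (conj_pow (i := N) (a := Hm⁻¹) (b := h)),
        show h ^ N = 1 from Subtype.ext (by rw [SubmonoidClass.coe_pow]; exact hhN)]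
      group
    rw [← SubmonoidClass.coe_pow, h1]; rfl
  obtain ⟨hd2, hdJ, hYd, hdY, -⟩ := hprop y₁ hy₁N
  set d := neg y₁ with hddef
  have hconj : d = (Hm⁻¹).1 * e * Hm.1 := by
    have h1 := movedProj_conj (r := r) (x := -h.1) (y := -y₁.1) (k := (Hm⁻¹).1) (k' := Hm.1) (by
      show (Hm⁻¹).1 * -h.1 = -((Hm⁻¹).1 * h.1 * Hm.1) * (Hm⁻¹).1
      rw [Matrix.mul_neg, Matrix.neg_mul, mul_assoc _ Hm.1, hHinv', mul_one]) hHinv
    simp only [hddef, hedef, neg, mul_sub, sub_mul, mul_one, hHinv, h1]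
  -- the two projections have one range, hence are equal
  have hHrange : ∀ u, e *ᵥ (Hm.1 *ᵥ (f *ᵥ u)) = Hm.1 *ᵥ (f *ᵥ u) := fun u => by
    obtain ⟨w, hw⟩ : Hm.1 *ᵥ (f *ᵥ u) ∈ Q := by
      have := hHψ ⟨f *ᵥ u, u, rfl⟩
      rw [Sp.toEquiv_apply] at this
      rw [this]; exact (ψ _).2
    rw [← hw]
    show e *ᵥ (e *ᵥ w) = e *ᵥ w
    rw [mulVec_mulVec, he2]
  have hdf : d * f = f := by
    refine Matrix.ext_of_mulVec_single fun j => ?_
    rw [← mulVec_mulVec, hconj, ← mulVec_mulVec, ← mulVec_mulVec, hHrange, mulVec_mulVec, hHinv, one_mulVec]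
  have hfd : f * d = d := by
    refine Matrix.ext_of_mulVec_single fun j => ?_
    have hmem : e *ᵥ (Hm.1 *ᵥ Pi.single j 1) ∈ Q := ⟨_, rfl⟩
    obtain ⟨⟨_, w, rfl⟩, hw⟩ := ψ.surjective ⟨_, hmem⟩
    have h1 : Hm.1 *ᵥ (f *ᵥ w) = e *ᵥ (Hm.1 *ᵥ Pi.single j 1) := by
      have := hHψ ⟨f *ᵥ w, w, rfl⟩
      rw [Sp.toEquiv_apply] at this
      rw [this]; exact congrArg Subtype.val hw
    have hz : ∀ z, (Hm⁻¹).1 *ᵥ (Hm.1 *ᵥ z) = z := fun z => by rw [mulVec_mulVec, hHinv, one_mulVec]
    rw [← mulVec_mulVec, hconj, ← mulVec_mulVec, ← mulVec_mulVec, ← h1, hz, mulVec_mulVec, hf2]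
  have hJJ : IsUnit (JJ).det := Matrix.isUnit_det_J (Fin m) F
  have hd_eq : d = f := by
    have h1 : JJ * (f * d) = JJ * f := by
      calc JJ * (f * d) = fᵀ * JJ * d := by rw [hfJ, mul_assoc]
        _ = fᵀ * (dᵀ * JJ) := by rw [hdJ, mul_assoc]
        _ = (d * f)ᵀ * JJ := by rw [transpose_mul, mul_assoc]
        _ = _ := by rw [hdf, hfJ]
    have h2 := congrArg (fun M => (JJ)⁻¹ * M) h1
    simp only [← mul_assoc, Matrix.nonsing_inv_mul _ hJJ, one_mul] at h2
    exact hfd.symm.trans h2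
  -- remove the `-1` eigenvalue
  let ι₀ : Matrix II II F := 1 - (2 : F) • f
  have hff : ∀ a b : F, (1 + a • f) * (1 + b • f) = 1 + (a + b + a * b) • f := fun a b => by
    simp only [mul_add, add_mul, one_mul, mul_one, smul_mul_smul_comm, hf2]
    module
  have hι2 : ι₀ * ι₀ = 1 := by
    have h1 := hff (-2) (-2)
    rw [show (-2 : F) + -2 + -2 * -2 = 0 by ring, zero_smul, add_zero] at h1
    rw [show ι₀ = 1 + (-2 : F) • f by simp [ι₀, sub_eq_add_neg]]; exact h1
  have hιJ : ι₀ᵀ * JJ = JJ * ι₀ := by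
    simp only [ι₀, transpose_sub, transpose_one, transpose_smul, sub_mul, mul_sub, one_mul, mul_one, smul_mul_assoc,
      mul_smul_comm, hfJ]
  have hιmem : ι₀ ∈ Matrix.symplecticGroup (Fin m) F := by
    rw [SymplecticGroup.mem_iff', hιJ, mul_assoc, hι2, mul_one]
  let ιS : ↥(Matrix.symplecticGroup (Fin m) F) := ⟨ι₀, hιmem⟩
  have hcom : ∀ w : Matrix II II F, f * w = w * f → ι₀ * w = w * ι₀ := fun w hw => by
    simp only [ι₀, sub_mul, mul_sub, one_mul, mul_one, smul_mul_assoc, mul_smul_comm, hw]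
  let x' := g * ιS
  let y' := y₁ * ιS
  have hfy : f * y₁.1 = y₁.1 * f := by rw [← hd_eq]; exact hdY
  have hx'r : x'.1 ^ r = 1 := by
    show (g.1 * ι₀) ^ r = 1
    rw [(Commute.mul_pow (show Commute g.1 ι₀ from (hcom g.1 hfX).symm) r), (hpow g.1 hgN).1,
      show r = 2 * N from rfl, pow_mul, pow_two, hι2, one_pow, one_mul]
  let U : ↥(Matrix.symplecticGroup (Fin m) F) → GL II F := fun w =>
    ⟨w.1, (w⁻¹).1, by rw [← Submonoid.coe_mul, mul_inv_cancel, Submonoid.coe_one],
      by rw [← Submonoid.coe_mul, inv_mul_cancel, Submonoid.coe_one]⟩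
  let s₁ : GL II F := U Hm⁻¹ * s
  have hs₁ : (s₁ : Matrix II II F) * g.1 = y₁.1 * (s₁ : Matrix II II F) := by
    show (Hm⁻¹).1 * (s : Matrix II II F) * g.1 = (Hm⁻¹).1 * h.1 * Hm.1 * ((Hm⁻¹).1 * (s : Matrix II II F))
    rw [mul_assoc, show (s : Matrix II II F) * g.1 = h.1 * s from hs, mul_assoc _ Hm.1, ← mul_assoc Hm.1, hHinv',
      one_mul, ← mul_assoc]
  have hs₁f : (s₁ : Matrix II II F) * f = f * (s₁ : Matrix II II F) := by
    calc (s₁ : Matrix II II F) * f = (Hm⁻¹).1 * (e * (s : Matrix II II F)) := by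
          show (Hm⁻¹).1 * (s : Matrix II II F) * f = _
          rw [mul_assoc, hse]
      _ = (Hm⁻¹).1 * e * (Hm.1 * (Hm⁻¹).1) * (s : Matrix II II F) := by rw [hHinv', mul_one, mul_assoc]
      _ = d * (s₁ : Matrix II II F) := by
          rw [hconj]; show _ = _ * ((Hm⁻¹).1 * (s : Matrix II II F)); simp only [mul_assoc]
      _ = _ := by rw [hd_eq]
  have hs₁' : s₁ * U x' * s₁⁻¹ = U y' := by
    rw [mul_inv_eq_iff_eq_mul]
    refine Units.ext ?_
    show (s₁ : Matrix II II F) * (g.1 * ι₀) = y₁.1 * ι₀ * (s₁ : Matrix II II F)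
    rw [← mul_assoc, hs₁, mul_assoc, mul_assoc, hcom _ hs₁f.symm]
  -- no eigenvalue `-1`
  have hx'inj : ∀ v, x'.1 *ᵥ v = -v → v = 0 := by
    intro v hv
    have h1 : f * x'.1 = f := by
      show f * (g.1 * ι₀) = f
      rw [← mul_assoc, hfX, hXf]
      simp only [ι₀, mul_sub, mul_one, mul_smul_comm, Matrix.neg_mul, hf2]
      module
    have h2' := congrArg (fun w => f *ᵥ w) hv
    simp only [mulVec_mulVec, h1, mulVec_neg] at h2'
    have h3 : f *ᵥ v = 0 := by
      have h4 : (2 : F) • (f *ᵥ v) = 0 := by rw [two_smul]; exact eq_neg_iff_add_eq_zero.mp h2'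
      exact (smul_eq_zero.mp h4).resolve_left h2 |> id
    have h5 : g.1 *ᵥ v = -v := by
      rw [← hv]
      show _ = (g.1 * ι₀) *ᵥ v
      rw [← mulVec_mulVec]
      simp [ι₀, sub_mulVec, smul_mulVec, h3]
    exact (hfker v h5).symm.trans h3
  have he2' : movedProj r (x'.1 * x'.1) = movedProj r x'.1 := by
    set X := x'.1 with hX
    have hXXr : (X * X) ^ r = 1 := by rw [← pow_two, ← pow_mul, mul_comm, pow_mul, hx'r, one_pow]
    set A := 1 - movedProj r X with hA
    set B := 1 - movedProj r (X * X) with hB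
    have hXA : X * A = A := mul_one_sub_movedProj hx'r
    have hXB : X * B = B := by
      refine sub_eq_zero.mp (Matrix.ext_of_mulVec_single fun j => ?_)
      rw [zero_mulVec]
      refine hx'inj _ ?_
      have h1 : X * (X * B) = B := by rw [← mul_assoc]; exact mul_one_sub_movedProj hXXr
      rw [mulVec_mulVec, Matrix.mul_sub, h1, ← neg_sub, neg_mulVec]
    have key : ∀ (Y C : Matrix II II F), Y * C = C → (1 - movedProj r Y) * C = C := by
      intro Y C hYC
      have hi : ∀ i : ℕ, Y ^ i * C = C := by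
        intro i
        induction i with
        | zero => simp
        | succ i ih => rw [pow_succ, mul_assoc, hYC, ih]
      simp only [movedProj, sub_sub_cancel, smul_mul_assoc, Finset.sum_mul, hi, Finset.sum_const, Finset.card_range]
      rw [← Nat.cast_smul_eq_nsmul F, smul_smul, inv_mul_cancel₀ hr, one_smul]
    have h1 : A * B = B := key X B hXB
    have h2 : B * A = A := key (X * X) A (by rw [mul_assoc, hXA, hXA])
    have h3 : A * B = B * A := by
      have h4 : X * movedProj r (X * X) = movedProj r (X * X) * X := movedProj_commute (mul_assoc X X X).symm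
      have h5 : movedProj r (X * X) * movedProj r X = movedProj r X * movedProj r (X * X) :=
        movedProj_commute h4.symm
      simp only [hA, hB, sub_mul, mul_sub, one_mul, mul_one, h5]
      abel
    have h6 : B = A := h1.symm.trans (h3.trans h2)
    simpa [hA, hB] using h6
  obtain ⟨k, hkx, hkB, hfin⟩ := exists_isometric_on_moved' hJJ (-1) (by ring)
    (by rw [neg_one_smul]; exact Matrix.J_transpose _ _) hr (U x') (U y') s₁ (hpres x') (hpres y') hx'r he2' hs₁'
  let e' := movedProj r x'.1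
  let ey := movedProj r y'.1
  have hy'f : ey * f = 0 ∧ f * ey = 0 ∧ e' * f = 0 ∧ f * e' = 0 := by
    have aux : ∀ w : Matrix II II F, w ^ r = 1 → f * w = f → w * f = f →
        movedProj r w * f = 0 ∧ f * movedProj r w = 0 := by
      intro w _ h1 h2
      have hi : ∀ i : ℕ, w ^ i * f = f ∧ f * w ^ i = f := by
        intro i
        induction i with
        | zero => simp
        | succ i ih =>
          exact ⟨by rw [pow_succ, mul_assoc, h2, ih.1], by rw [pow_succ', ← mul_assoc, h1, ih.2]⟩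
      have hsum : ((r : F)⁻¹ • ((Finset.range r).card • f)) = f := by
        rw [Finset.card_range, ← Nat.cast_smul_eq_nsmul F, smul_smul, inv_mul_cancel₀ hr, one_smul]
      constructor
      · simp only [movedProj, sub_mul, one_mul, smul_mul_assoc, Finset.sum_mul, fun i => (hi i).1, Finset.sum_const,
          hsum, sub_self]
      · simp only [movedProj, mul_sub, mul_one, mul_smul_comm, Finset.mul_sum, fun i => (hi i).2, Finset.sum_const,
          hsum, sub_self]
    have hfι : f * ι₀ = -f ∧ ι₀ * f = -f := by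
      constructor <;> simp only [ι₀, mul_sub, sub_mul, mul_one, one_mul, mul_smul_comm, smul_mul_assoc, hf2] <;> module
    have hx1 : f * x'.1 = f ∧ x'.1 * f = f := by
      refine ⟨?_, ?_⟩
      · show f * (g.1 * ι₀) = f
        rw [← mul_assoc, hfX, hXf, Matrix.neg_mul, hfι.1, neg_neg]
      · show g.1 * ι₀ * f = f
        rw [mul_assoc, hfι.2, Matrix.mul_neg, hXf, neg_neg]
    have hYf : y₁.1 * f = -f := by rw [← hd_eq]; exact hYd
    have hy1 : f * y'.1 = f ∧ y'.1 * f = f := by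
      refine ⟨?_, ?_⟩
      · show f * (y₁.1 * ι₀) = f
        rw [← mul_assoc, hfy, hYf, Matrix.neg_mul, hfι.1, neg_neg]
      · show y₁.1 * ι₀ * f = f
        rw [mul_assoc, hfι.2, Matrix.mul_neg, hYf, neg_neg]
    have hy'r : y'.1 ^ r = 1 := by
      show (y₁.1 * ι₀) ^ r = 1
      rw [(Commute.mul_pow (show Commute y₁.1 ι₀ from (hcom _ hfy).symm) r), (hpow y₁.1 hy₁N).1,
        show r = 2 * N from rfl, pow_mul, pow_two, hι2, one_pow, one_mul]
    exact ⟨(aux _ hy'r hy1.1 hy1.2).1, (aux _ hy'r hy1.1 hy1.2).2, (aux _ hx'r hx1.1 hx1.2).1,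
      (aux _ hx'r hx1.1 hx1.2).2⟩
  obtain ⟨heyf, hfey, he'f, hfe'⟩ := hy'f
  let km : Matrix II II F := (k : Matrix II II F)
  have hke : km * e' = ey * km := by
    have hkxm : km * x'.1 = y'.1 * km := congrArg Units.val hkx
    have := movedProj_conj (r := r) hkxm (Units.mul_inv k)
    simp only [ey, this, mul_assoc, e', km, Units.inv_mul, mul_one]
  let E := e' + f
  let K := km * e' + f
  have he'2 : e' * e' = e' := movedProj_idem hr hx'r
  have he'J : e'ᵀ * JJ = JJ * e' := transpose_movedProj_mul (hpres x') hx'r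
  have hKE : K * E = K := by
    simp only [K, E, add_mul, mul_add, mul_assoc, he'2, he'f, hfe', hf2, mul_zero, add_zero, zero_add]
  have hEJ : Eᵀ * JJ = JJ * E := by simp only [E, transpose_add, add_mul, mul_add, he'J, hfJ]
  have hE2 : E * E = E := by simp only [E, add_mul, mul_add, he'2, he'f, hfe', hf2, add_zero, zero_add]
  have hKJ : Kᵀ * JJ * K = Eᵀ * JJ * E := by
    have c1 : (km * e')ᵀ * JJ * f = 0 := by
      rw [hke, transpose_mul, mul_assoc, mul_assoc, show eyᵀ * (JJ * f) = eyᵀ * JJ * f from (mul_assoc _ _ _).symm,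
        transpose_movedProj_mul (hpres y') ?_, mul_assoc, show ey * f = 0 from heyf, mul_zero, mul_zero]
      have h7 := congrArg Units.val hs₁'
      have hy'r : y'.1 ^ r = 1 := by
        show (y₁.1 * ι₀) ^ r = 1
        rw [(Commute.mul_pow (show Commute y₁.1 ι₀ from (hcom _ hfy).symm) r), (hpow y₁.1 hy₁N).1,
          show r = 2 * N from rfl, pow_mul, pow_two, hι2, one_pow, one_mul]
      exact hy'r
    have c2 : fᵀ * JJ * (km * e') = 0 := by
      rw [hke, hfJ, mul_assoc, ← mul_assoc f, hfey, zero_mul, mul_zero]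
    have c3 : e'ᵀ * JJ * f = 0 := by rw [he'J, mul_assoc, he'f, mul_zero]
    have c4 : fᵀ * JJ * e' = 0 := by rw [hfJ, mul_assoc, hfe', mul_zero]
    simp only [K, E, transpose_add, add_mul, mul_add, c1, c2, c3, c4, add_zero, zero_add]
    exact congrArg (· + fᵀ * JJ * f) hkB
  let R := LinearMap.range (Matrix.toLin' E)
  let Φ : R →ₗ[F] (II → F) := (Matrix.toLin' K).comp R.subtype
  have hΦJ : ∀ u v : R, ω (Φ u) (Φ v) = ω u.1 v.1 := by
    rintro ⟨_, u, rfl⟩ ⟨_, v, rfl⟩
    show ω (K *ᵥ (E *ᵥ u)) (K *ᵥ (E *ᵥ v)) = ω (E *ᵥ u) (E *ᵥ v)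
    rw [mulVec_mulVec, mulVec_mulVec, hKE, sympBilin_mulVec, sympBilin_mulVec, hKJ]
  have hΦi : Function.Injective Φ := by
    refine (injective_iff_map_eq_zero Φ).mpr fun u hu => ?_
    have hz : ∀ v : R, ω u.1 v.1 = 0 := fun v => by rw [← hΦJ, hu, map_zero, LinearMap.zero_apply]
    exact hsep E hE2 hEJ u hz
  obtain ⟨G₀, hG₀, hG₀e⟩ := Sp.witt_extension Sp.sympBilin_isAlt Sp.sympBilin_separatingLeft R Φ hΦi hΦJ
  obtain ⟨G, rfl⟩ := Sp.exists_toEquiv_eq (Sp.transvGroup_le_isom hG₀)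
  have hGE : G.1 * E = K := by
    refine Matrix.ext_of_mulVec_single fun j => ?_
    have := hG₀e ⟨E *ᵥ Pi.single j 1, _, rfl⟩
    rw [← mulVec_mulVec]
    rw [Sp.toEquiv_apply] at this
    rw [this]
    show K *ᵥ (E *ᵥ Pi.single j 1) = _
    rw [mulVec_mulVec, hKE]
  have hGe' : G.1 * e' = km * e' := by
    have h1 := congrArg (fun M => M * e') hGE
    simp only [K, E, mul_assoc, add_mul, he'2, hfe', add_zero, zero_add] at h1
    simpa [mul_add, he'2, hfe'] using h1
  have hGf : G.1 * f = f := by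
    have h1 := congrArg (fun M => M * f) hGE
    simp only [K, E, mul_assoc, add_mul, he'f, hf2, add_zero, zero_add, mul_zero] at h1
    simpa [mul_add, he'f, hf2] using h1
  have hfG : f * G.1 = f := by
    have h1 : JJ * (f * G.1) = JJ * f := by
      calc JJ * (f * G.1) = fᵀ * JJ * G.1 := by rw [hfJ, mul_assoc]
        _ = (G.1 * f)ᵀ * JJ * G.1 := by rw [hGf]
        _ = fᵀ * (G.1ᵀ * JJ * G.1) := by rw [transpose_mul]; simp only [mul_assoc]
        _ = _ := by rw [hpres G, hfJ]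
    have h2 := congrArg (fun M => (JJ)⁻¹ * M) h1
    simpa [← mul_assoc, Matrix.nonsing_inv_mul _ hJJ] using h2
  have hfin' := hfin (U G) (hpres G) hGe'
  rw [mul_inv_eq_iff_eq_mul] at hfin'
  have hfinm : G.1 * (g.1 * ι₀) = y₁.1 * ι₀ * G.1 := congrArg Units.val hfin'
  have hGconj : G.1 * g.1 = y₁.1 * G.1 := by
    have h1 := congrArg (fun M => M * ι₀) hfinm
    simp only [mul_assoc, hι2, mul_one] at h1
    rw [← hcom G.1 (by rw [hfG, hGf]), ← mul_assoc ι₀, hι2, one_mul] at h1
    exact h1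
  refine isConj_iff.mpr ⟨Hm * G, ?_⟩
  have hG' : G * g = y₁ * G := Subtype.ext hGconj
  rw [mul_inv_eq_iff_eq_mul, mul_assoc, hG']
  simp only [y₁]
  group

end CfsgLib.SemisimpleClass
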