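import Cfsg.Agent.Lib.SemisimpleClass.SympConj
import Cfsg.Agent.Lib.SemisimpleClass.Classes

set_option autoImplicit false

/-! The semisimple classes of `Sp_2n(q)` are counted by the palindromic monic polynomials. -/

namespace CfsgLib.SemisimpleClass

open Polynomial Matrix Module

variable {F : Type*} [Field F]

/-- The palindromic monic polynomials of degree `2n`. -/
def IsPal (n : ℕ) (f : F[X]) : Prop :=
  f.Monic ∧ f.natDegree = 2 * n ∧ ∀ i ≤ 2 * n, f.coeff i = f.coeff (2 * n - i)

theorem isPal_charpoly {n : ℕ} (X : Matrix.symplecticGroup (Fin n) F) :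
    IsPal n (X : Matrix (Fin n ⊕ Fin n) (Fin n ⊕ Fin n) F).charpoly := by
  have hcard : Fintype.card (Fin n ⊕ Fin n) = 2 * n := by simp [two_mul]
  have hdeg : X.1.charpoly.natDegree = 2 * n := by rw [Matrix.charpoly_natDegree_eq_dim, hcard]
  refine ⟨Matrix.charpoly_monic _, hdeg, fun i hi => ?_⟩
  have hdet : X.1.det = 1 := SymplecticGroup.det_eq_one X.2
  have hu : IsUnit X.1 := (Matrix.isUnit_iff_isUnit_det _).mpr (by rw [hdet]; exact isUnit_one)
  have hJ := Matrix.isUnit_det_J (Fin n) F
  have hinv : X.1⁻¹ = (Matrix.J (Fin n) F)⁻¹ * (X.1ᵀ * Matrix.J (Fin n) F) :=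
    Matrix.inv_eq_left_inv (by
      rw [Matrix.mul_assoc, SymplecticGroup.mem_iff'.1 X.2, Matrix.nonsing_inv_mul _ hJ])
  have h1 := Matrix.charpoly_inv X.1 hu
  rw [hinv, Matrix.charpoly_mul_comm, Matrix.mul_assoc, Matrix.mul_nonsing_inv _ hJ, Matrix.mul_one,
    Matrix.charpoly_transpose, hdet, Ring.inverse_one, map_one, mul_one, hcard, pow_mul, neg_one_sq, one_pow,
    one_mul, ← Matrix.reverse_charpoly] at h1
  conv_lhs => rw [h1]
  rw [coeff_reverse, hdeg, revAt_le hi]

/-- A palindromic polynomial of formal degree `2n` is a homogenised polynomial in `X² + 1` and `X`. -/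
theorem exists_sum_of_pal : ∀ (n : ℕ) (f : F[X]), f.natDegree ≤ 2 * n →
    (∀ i ≤ 2 * n, f.coeff i = f.coeff (2 * n - i)) →
    ∃ c : ℕ → F, f = ∑ k ∈ Finset.range (n + 1), C (c k) * X ^ (n - k) * (X ^ 2 + 1) ^ k := by
  intro n
  induction n with
  | zero =>
    intro f hf _
    exact ⟨fun _ => f.coeff 0, by simpa using eq_C_of_natDegree_le_zero hf⟩
  | succ n ih =>
    intro f hf hpal
    have hd2 : ((X : F[X]) ^ 2 + 1).natDegree ≤ 2 := by
      refine (natDegree_add_le _ _).trans (max_le ?_ ?_)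
      · rw [natDegree_X_pow]
      · simp
    have hrefl : ∀ k, reflect (2 * k) (((X : F[X]) ^ 2 + 1) ^ k) = (X ^ 2 + 1) ^ k := by
      intro k
      induction k with
      | zero => simp
      | succ k ih' =>
        rw [pow_succ, show 2 * (k + 1) = 2 * k + 2 by ring,
          reflect_mul _ _ (natDegree_pow_le.trans (by nlinarith [hd2])) hd2, ih']
        congr 1
        rw [reflect_add, reflect_one, reflect_monomial, revAt_le le_rfl, Nat.sub_self, pow_zero, add_comm]
    set q : F[X] := (X ^ 2 + 1) ^ (n + 1) with hq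
    have hqdeg : q.natDegree ≤ 2 * (n + 1) := natDegree_pow_le.trans (by nlinarith [hd2])
    have hqpal : ∀ i ≤ 2 * (n + 1), q.coeff i = q.coeff (2 * (n + 1) - i) := fun i hi => by
      have h1 := congrArg (fun p : F[X] => p.coeff i) (hrefl (n + 1))
      simp only [coeff_reflect, revAt_le hi] at h1
      exact h1.symm
    have hq0 : q.coeff 0 = 1 := by simp [hq, coeff_zero_eq_eval_zero]
    set g := f - C (f.coeff 0) * q with hg
    have hg0 : g.coeff 0 = 0 := by simp [hg, coeff_sub, hq0]
    have hgdeg : ∀ i, 2 * (n + 1) < i → g.coeff i = 0 := fun i hi => by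
      rw [hg, coeff_sub, coeff_C_mul, coeff_eq_zero_of_natDegree_lt (by omega),
        coeff_eq_zero_of_natDegree_lt (p := q) (by omega), mul_zero, sub_zero]
    have hgpal : ∀ i ≤ 2 * (n + 1), g.coeff i = g.coeff (2 * (n + 1) - i) := fun i hi => by
      simp only [hg, coeff_sub, coeff_C_mul]
      rw [← hpal i hi, ← hqpal i hi]
    have hgX : g = X * g.divX := by
      conv_lhs => rw [← X_mul_divX_add g, hg0, map_zero, add_zero]
    obtain ⟨c, hc⟩ := ih g.divX (natDegree_le_iff_coeff_eq_zero.mpr fun i hi => by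
        rw [coeff_divX]
        rcases eq_or_lt_of_le (show 2 * (n + 1) ≤ i + 1 from by omega) with h | h
        · rw [← h, hgpal _ le_rfl, Nat.sub_self, hg0]
        · exact hgdeg _ h) (fun i hi => by
        rw [coeff_divX, coeff_divX, hgpal (i + 1) (by omega)]
        congr 1
        omega)
    refine ⟨fun k => if k = n + 1 then f.coeff 0 else c k, ?_⟩
    rw [Finset.sum_range_succ]
    dsimp only
    rw [if_pos rfl, Nat.sub_self, pow_zero, mul_one, ← hq]
    have hsum : ∑ k ∈ Finset.range (n + 1),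
        C (if k = n + 1 then f.coeff 0 else c k) * X ^ (n + 1 - k) * (X ^ 2 + 1) ^ k = g := by
      rw [hgX, hc, Finset.mul_sum]
      refine Finset.sum_congr rfl fun k hk => ?_
      have hk' := Finset.mem_range.mp hk
      rw [if_neg (by omega), show n + 1 - k = (n - k) + 1 by omega, pow_succ]
      ring
    rw [hsum, hg]
    ring

/-- The homogenised characteristic polynomial. -/
theorem det_sq_add_one_sub_X_smul {n : ℕ} (T : Matrix (Fin n) (Fin n) F) :
    (((X : F[X]) ^ 2 + 1) • (1 : Matrix (Fin n) (Fin n) F[X]) - (X : F[X]) • T.map C).det =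
      ∑ k ∈ Finset.range (n + 1), C (T.charpoly.coeff k) * X ^ (n - k) * (X ^ 2 + 1) ^ k := by
  let ψ : F[X] →+* FractionRing F[X] := algebraMap _ _
  apply IsFractionRing.injective F[X] (FractionRing F[X])
  show ψ _ = ψ _
  rw [RingHom.map_det]
  set b := ψ X with hb
  set a := ψ (X ^ 2 + 1) with ha
  have hb0 : b ≠ 0 := by
    rw [hb]
    exact (map_ne_zero_iff ψ (IsFractionRing.injective _ _)).mpr Polynomial.X_ne_zero
  let TK := T.map (ψ.comp C)
  have hM : ψ.mapMatrix (((X : F[X]) ^ 2 + 1) • (1 : Matrix (Fin n) (Fin n) F[X]) - (X : F[X]) • T.map C) =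
      b • (Matrix.scalar (Fin n) (a / b) - TK) := by
    ext i j
    simp only [RingHom.mapMatrix_apply, Matrix.map_apply, Matrix.sub_apply, Matrix.smul_apply, smul_eq_mul,
      map_sub, map_mul, Matrix.scalar_apply, TK, RingHom.comp_apply, ← hb, ← ha, mul_sub]
    rcases eq_or_ne i j with rfl | hij
    · rw [Matrix.one_apply_eq, map_one, mul_one, Matrix.diagonal_apply_eq, mul_div_cancel₀ _ hb0]
    · rw [Matrix.one_apply_ne hij, map_zero, mul_zero, Matrix.diagonal_apply_ne _ hij, mul_zero]
  rw [hM, Matrix.det_smul, Fintype.card_fin, ← Matrix.eval_charpoly, Matrix.charpoly_map, eval_map,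
    eval₂_eq_sum_range, Matrix.charpoly_natDegree_eq_dim, Fintype.card_fin, map_sum, Finset.mul_sum]
  refine Finset.sum_congr rfl fun k hk => ?_
  have hk' := Finset.mem_range.mp hk
  rw [map_mul, map_mul, map_pow, map_pow, ← hb, ← ha, RingHom.comp_apply, div_pow]
  rw [show b ^ n = b ^ (n - k) * b ^ k by rw [← pow_add]; congr 1; omega]
  field_simp

variable [Fintype F]

omit [Fintype F] in
/-- A symmetric invertible matrix intertwining a matrix with given characteristic polynomial and its
transpose. -/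
theorem exists_symm_intertwiner {n : ℕ} (hn : 1 ≤ n) {h : F[X]} (hm : h.Monic) (hd : h.natDegree = n) :
    ∃ T S : Matrix (Fin n) (Fin n) F, T.charpoly = h ∧ Sᵀ = S ∧ IsUnit S.det ∧ Tᵀ * S = S * T := by
  classical
  subst hd
  let A := AdjoinRoot h
  let pb := AdjoinRoot.powerBasis hm.ne_zero
  have hdim : pb.dim = h.natDegree := AdjoinRoot.powerBasis_dim hm.ne_zero
  let b : Basis (Fin h.natDegree) F A := pb.basis.reindex (finCongr hdim)
  let T := Algebra.leftMulMatrix b pb.gen
  let φ0 : A →ₗ[F] F := (Polynomial.lcoeff F (h.natDegree - 1)).comp (AdjoinRoot.modByMonicHom hm)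
  have hφ0nd : ∀ u : A, (∀ a, φ0 (u * a) = 0) → u = 0 := by
    intro u hu
    rw [← AdjoinRoot.mk_leftInverse hm u]
    set r := AdjoinRoot.modByMonicHom hm u with hr
    by_contra hne
    have hr0 : r ≠ 0 := fun e => hne (by rw [e, map_zero])
    have hdeg : r.natDegree < h.natDegree := by
      obtain ⟨p, rfl⟩ := AdjoinRoot.mk_surjective u
      rw [hr, AdjoinRoot.modByMonicHom_mk hm]
      refine natDegree_modByMonic_lt p hm fun h1 => ?_
      rw [h1, natDegree_one] at hn
      omega
    have h1 := hu (AdjoinRoot.mk h (Polynomial.X ^ (h.natDegree - 1 - r.natDegree)))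
    rw [← AdjoinRoot.mk_leftInverse hm u, ← hr, ← map_mul] at h1
    change ((AdjoinRoot.modByMonicHom hm) (AdjoinRoot.mk h
      (r * Polynomial.X ^ (h.natDegree - 1 - r.natDegree)))).coeff (h.natDegree - 1) = 0 at h1
    rw [AdjoinRoot.modByMonicHom_mk hm, (modByMonic_eq_self_iff hm).mpr (by
        rw [degree_eq_natDegree hm.ne_zero, degree_mul, degree_X_pow, degree_eq_natDegree hr0, ← Nat.cast_add]
        exact_mod_cast (by omega : r.natDegree + (h.natDegree - 1 - r.natDegree) < h.natDegree)), coeff_mul_X_pow',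
      if_pos (Nat.sub_le _ _),
      show h.natDegree - 1 - (h.natDegree - 1 - r.natDegree) = r.natDegree by omega] at h1
    exact hr0 (leadingCoeff_eq_zero.mp h1)
  let S : Matrix (Fin h.natDegree) (Fin h.natDegree) F := Matrix.of fun i j => φ0 (b i * b j)
  refine ⟨T, S, ?_, ?_, ?_, ?_⟩
  · have hT : T = Matrix.reindex (finCongr hdim) (finCongr hdim) (Algebra.leftMulMatrix pb.basis pb.gen) := by
      ext i j
      simp [T, b, Algebra.leftMulMatrix_eq_repr_mul]
    rw [hT, Matrix.charpoly_reindex, charpoly_leftMulMatrix, AdjoinRoot.minpoly_powerBasis_gen_of_monic hm]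
  · ext i j
    simp [S, mul_comm]
  · rw [isUnit_iff_ne_zero]
    intro h0
    obtain ⟨v, hv0, hv⟩ := Matrix.exists_mulVec_eq_zero_iff.mpr h0
    refine hv0 ?_
    have hu : ∑ j, v j • b j = 0 := by
      refine hφ0nd _ fun a => ?_
      rw [← b.sum_repr a, Finset.mul_sum, map_sum]
      refine Finset.sum_eq_zero fun i _ => ?_
      rw [mul_smul_comm, map_smul, Finset.sum_mul, map_sum]
      have h2 := congrFun hv i
      simp only [Matrix.mulVec, dotProduct, S, Matrix.of_apply, Pi.zero_apply] at h2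
      rw [Finset.sum_congr rfl fun j _ => show φ0 (v j • b j * b i) = φ0 (b i * b j) * v j by
        rw [smul_mul_assoc, map_smul, smul_eq_mul, mul_comm (b j), mul_comm], h2, smul_zero]
    exact funext fun j => Fintype.linearIndependent_iff.mp b.linearIndependent v hu j
  · ext i j
    have key : ∀ i j, ∑ k, T k i * φ0 (b k * b j) = φ0 (pb.gen * b i * b j) := fun i j => by
      conv_rhs => rw [← b.sum_repr (pb.gen * b i), Finset.sum_mul, map_sum]
      refine Finset.sum_congr rfl fun k _ => ?_
      rw [smul_mul_assoc, map_smul, smul_eq_mul]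
      simp [T, Algebra.leftMulMatrix_eq_repr_mul]
    simp only [Matrix.mul_apply, Matrix.transpose_apply, S, Matrix.of_apply]
    rw [key i j, Finset.sum_congr rfl fun k _ => show φ0 (b i * b k) * T k j = T k j * φ0 (b k * b i) by
      rw [mul_comm, mul_comm (b i)], key j i]
    congr 1
    ring

omit [Fintype F] in
theorem exists_elem_of_isPal {n : ℕ} {f : F[X]} (hf : IsPal n f) :
    ∃ M : Matrix.symplecticGroup (Fin n) F, (M : Matrix (Fin n ⊕ Fin n) (Fin n ⊕ Fin n) F).charpoly = f := by
  classical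
  obtain ⟨hfm, hfd, hfp⟩ := hf
  rcases Nat.eq_zero_or_pos n with rfl | hn
  · refine ⟨1, ?_⟩
    rw [Nat.mul_zero] at hfd
    rw [eq_one_of_monic_natDegree_zero hfm hfd]
    exact eq_one_of_monic_natDegree_zero (Matrix.charpoly_monic _) (by simp)
  obtain ⟨c, hc⟩ := exists_sum_of_pal n f hfd.le hfp
  have hcn : c n = 1 := by
    have h1 : f.coeff 0 = 1 := by
      have := hfp 0 (Nat.zero_le _)
      rw [this, Nat.sub_zero, ← hfd]
      exact hfm
    rw [hc, finsetSum_coeff, Finset.sum_eq_single n (fun k hk hkn => by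
        have := Finset.mem_range.mp hk
        rw [coeff_zero_eq_eval_zero]
        simp [zero_pow (show n - k ≠ 0 by omega)]) (by simp)] at h1
    simpa [coeff_zero_eq_eval_zero] using h1
  set h := mkPoly (fun i : Fin n => c i) with hh
  obtain ⟨hm, hd⟩ := mkPoly_monic (fun i : Fin n => c i)
  obtain ⟨T, S, hT, hS, hSu, hTS⟩ := exists_symm_intertwiner hn hm hd
  have hSi : (S⁻¹)ᵀ = S⁻¹ := by rw [Matrix.transpose_nonsing_inv, hS]
  have hmem : Matrix.fromBlocks T (-S⁻¹) S 0 ∈ Matrix.symplecticGroup (Fin n) F := by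
    rw [SymplecticGroup.mem_iff']
    simp only [Matrix.J, Matrix.fromBlocks_transpose, Matrix.fromBlocks_multiply, Matrix.transpose_zero,
      Matrix.transpose_neg, hS, hSi]
    simp [Matrix.mul_nonsing_inv _ hSu, Matrix.nonsing_inv_mul _ hSu, hTS]
  refine ⟨⟨_, hmem⟩, ?_⟩
  show (Matrix.fromBlocks T (-S⁻¹) S 0).charpoly = f
  rw [Matrix.charpoly, Matrix.charmatrix_fromBlocks]
  set A := Matrix.charmatrix T with hA
  set Si := (S⁻¹).map (C : F → F[X]) with hSidef
  set S' := S.map (C : F → F[X]) with hS'def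
  have hzero : Matrix.charmatrix (0 : Matrix (Fin n) (Fin n) F) = (X : F[X]) • (1 : Matrix (Fin n) (Fin n) F[X]) := by
    ext i j
    rcases eq_or_ne i j with rfl | hij
    · simp [Matrix.charmatrix_apply_eq]
    · simp [Matrix.charmatrix_apply_ne _ _ _ hij, Matrix.one_apply_ne hij]
  have hneg : -((-S⁻¹).map (C : F → F[X])) = Si := by ext i j; simp [hSidef]
  rw [hzero, hneg]
  have hprod : Si * S' = 1 := by
    rw [hSidef, hS'def, ← Matrix.map_mul, Matrix.nonsing_inv_mul _ hSu]
    simp
  have hprod' : S' * Si = 1 := mul_eq_one_comm.mp hprod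
  let N : Matrix (Fin n ⊕ Fin n) (Fin n ⊕ Fin n) F[X] := Matrix.fromBlocks 1 ((X : F[X]) • Si) 0 1
  have hNdet : N.det = 1 := by simp [N]
  have hJdet : (Matrix.J (Fin n) F[X]).det = 1 := SymplecticGroup.det_eq_one (SymplecticGroup.J_mem _ _)
  have hmul : Matrix.fromBlocks A Si (-S') ((X : F[X]) • 1) * N * Matrix.J (Fin n) F[X] =
      Matrix.fromBlocks (((X : F[X]) • A + 1) * Si) (-A) 0 S' := by
    simp only [N, Matrix.J, Matrix.fromBlocks_multiply, Matrix.mul_one, Matrix.mul_zero, add_zero, zero_add,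
      Matrix.mul_neg, Matrix.neg_mul, Matrix.mul_smul, Matrix.smul_mul, hprod', add_mul, Matrix.one_mul,
      neg_add_cancel, neg_neg, smul_neg]
  have h1 := congrArg Matrix.det hmul
  rw [Matrix.det_mul, Matrix.det_mul, hNdet, hJdet, mul_one, mul_one, Matrix.det_fromBlocks_zero₂₁, Matrix.det_mul,
    mul_assoc, ← Matrix.det_mul, hprod, Matrix.det_one, mul_one] at h1
  rw [h1, show (X : F[X]) • A + 1 = ((X : F[X]) ^ 2 + 1) • (1 : Matrix (Fin n) (Fin n) F[X]) - (X : F[X]) • T.map C by
    refine Matrix.ext fun i j => ?_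
    rcases eq_or_ne i j with rfl | hij
    · simp [hA, Matrix.charmatrix_apply_eq]; ring
    · simp [hA, Matrix.charmatrix_apply_ne _ _ _ hij, Matrix.one_apply_ne hij]]
  rw [det_sq_add_one_sub_X_smul, hc]
  refine Finset.sum_congr rfl fun k hk => ?_
  have hk' := Finset.mem_range.mp hk
  rw [hT]
  congr 3
  rcases eq_or_lt_of_le (Nat.lt_succ_iff.mp hk') with rfl | hlt
  · rw [hcn]
    have := hm.leadingCoeff
    rwa [leadingCoeff, hd] at this
  · exact coeff_mkPoly (fun i : Fin n => c i) ⟨k, hlt⟩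

theorem card_isPal (n : ℕ) : Nat.card {f : F[X] // IsPal n f} = Fintype.card F ^ n := by
  classical
  rw [show Nat.card {f : F[X] // IsPal n f} =
    Nat.card {v : Fin (2 * n) → F // ∀ i ≤ 2 * n, (mkPoly v).coeff i = (mkPoly v).coeff (2 * n - i)} from
      card_monic (fun f => ∀ i ≤ 2 * n, f.coeff i = f.coeff (2 * n - i))]
  have htop : ∀ v : Fin (2 * n) → F, (mkPoly v).coeff (2 * n) = 1 := fun v => by
    have h := (mkPoly_monic v).1
    rw [Monic, leadingCoeff, (mkPoly_monic v).2] at h
    exact h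
  have hco : ∀ (v : Fin (2 * n) → F) (i : ℕ) (hi : i < 2 * n), (mkPoly v).coeff i = v ⟨i, hi⟩ := fun v i hi =>
    coeff_mkPoly v ⟨i, hi⟩
  have e : {v : Fin (2 * n) → F // ∀ i ≤ 2 * n, (mkPoly v).coeff i = (mkPoly v).coeff (2 * n - i)} ≃
      (Fin n → F) :=
    { toFun := fun v i => (mkPoly v.1).coeff (i.1 + 1)
      invFun := fun w => ⟨fun j => if h : j.1 = 0 then 1 else if h' : j.1 ≤ n then w ⟨j.1 - 1, by omega⟩
          else w ⟨2 * n - j.1 - 1, by omega⟩, fun i hi => by
        rcases Nat.eq_zero_or_pos n with rfl | hn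
        · congr 1; omega
        rcases Nat.eq_zero_or_pos i with rfl | hpos
        · rw [Nat.sub_zero, htop, hco _ 0 (by omega)]
          simp
        rcases eq_or_lt_of_le hi with rfl | hlt
        · rw [Nat.sub_self, htop, hco _ 0 (by omega)]
          simp
        rw [hco _ i hlt, hco _ (2 * n - i) (by omega)]
        simp only [dif_neg (show i ≠ 0 by omega), dif_neg (show 2 * n - i ≠ 0 by omega)]
        rcases lt_trichotomy i n with h | h | h
        · rw [dif_pos h.le, dif_neg (by omega)]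
          congr 1
          ext
          show i - 1 = 2 * n - (2 * n - i) - 1
          omega
        · rw [dif_pos h.le, dif_pos (by omega)]
          congr 1
          ext
          show i - 1 = 2 * n - i - 1
          omega
        · rw [dif_neg (by omega), dif_pos (by omega)]⟩
      left_inv := fun v => by
        refine Subtype.ext (funext fun j => ?_)
        have hj := j.2
        by_cases h0 : j.1 = 0
        · simp only [dif_pos h0]
          have h1 := v.2 (2 * n) le_rfl
          rw [Nat.sub_self, htop, hco _ 0 (by omega)] at h1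
          rw [h1]
          refine congrArg v.1 (Fin.ext ?_)
          exact h0.symm
        · by_cases h' : j.1 ≤ n
          · simp only [dif_neg h0, dif_pos h']
            rw [hco _ _ (by omega)]
            refine congrArg v.1 (Fin.ext ?_)
            show j.1 - 1 + 1 = j.1
            omega
          · simp only [dif_neg h0, dif_neg h']
            rw [show 2 * n - j.1 - 1 + 1 = 2 * n - j.1 by omega, ← v.2 j.1 (by omega), hco _ _ hj]
      right_inv := fun w => by
        funext i
        have hi := i.2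
        dsimp only
        rw [hco _ (i.1 + 1) (by omega)]
        simp only [dif_neg (show i.1 + 1 ≠ 0 by omega), dif_pos (show i.1 + 1 ≤ n by omega)]
        congr 1 }
  rw [Nat.card_congr e, Nat.card_fun, Nat.card_eq_fintype_card (α := F), Nat.card_eq_fintype_card (α := Fin n),
    Fintype.card_fin]

theorem card_Sp_semisimple_classes {q : ℕ} (hq : Fintype.card F = q) (p : ℕ) [Fact p.Prime] [CharP F p] (n : ℕ) :
    Nat.card {c : ConjClasses ↥(Matrix.symplecticGroup (Fin n) F) //
      ∃ g : ↥(Matrix.symplecticGroup (Fin n) F), ConjClasses.mk g = c ∧ (orderOf g).Coprime p} = q ^ n := by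
  classical
  let φ : ↥(Matrix.symplecticGroup (Fin n) F) →* Matrix (Fin n ⊕ Fin n) (Fin n ⊕ Fin n) F :=
    { toFun := fun a => a.1, map_one' := rfl, map_mul' := fun _ _ => rfl }
  rw [PrimeClasses.card_classes (G := ↥(Matrix.symplecticGroup (Fin n) F)) (fun g => (orderOf g).Coprime p)
    (fun g => (φ g).charpoly) (fun f => IsPal n f) ?_ ?_ ?_ ?_]
  · rw [card_isPal, hq]
  · intro x y _ h
    obtain ⟨c, rfl⟩ := isConj_iff.mp h
    show _ = Matrix.charpoly (φ (c * x * c⁻¹))
    rw [map_mul, map_mul]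
    let cu : (Matrix (Fin n ⊕ Fin n) (Fin n ⊕ Fin n) F)ˣ := ⟨φ c, φ c⁻¹, by rw [← map_mul, mul_inv_cancel, map_one],
      by rw [← map_mul, inv_mul_cancel, map_one]⟩
    show _ = Matrix.charpoly ((cu : Matrix (Fin n ⊕ Fin n) (Fin n ⊕ Fin n) F) * φ x *
      ((cu⁻¹ : (Matrix (Fin n ⊕ Fin n) (Fin n ⊕ Fin n) F)ˣ) : Matrix (Fin n ⊕ Fin n) (Fin n ⊕ Fin n) F))
    rw [Matrix.coe_units_inv, Matrix.charpoly_units_conj]
  · exact fun x y hx hy h => Sp_isConj_of_charpoly_eq p x y hx hy h
  · exact fun x _ => isPal_charpoly x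
  · intro f hf
    obtain ⟨M, hM⟩ := exists_elem_of_isPal hf
    obtain ⟨s, hs, hsc⟩ := exists_semisimple p φ M
    exact ⟨s, hs, hsc.trans hM⟩

end CfsgLib.SemisimpleClass
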