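import Cfsg.Agent.Lib.SemisimpleClass.UnitaryDet
import Cfsg.Agent.Lib.UnitaryEmbed.HermSpace

set_option autoImplicit false

/-! The semisimple classes of `SU_n(q)` are counted by the conjugate-reciprocal monic polynomials. -/

namespace CfsgLib.SemisimpleClass

open Polynomial Matrix CfsgLib.CharBound.SUn Module

variable {F : Type*} [Field F] [Fintype F] {n q : ℕ} (hF : Fintype.card F = q ^ 2)
include hF

/-- The conjugate-reciprocal monic polynomials of degree `n` belonging to determinant one. -/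
def IsURec (n : ℕ) (f : F[X]) : Prop :=
  f.Monic ∧ f.natDegree = n ∧ ∀ i ≤ n, (conj hF).σ (f.coeff i) = (-1) ^ n * f.coeff (n - i)

theorem isURec_charpoly (X : Matrix (Fin n) (Fin n) F) (hX : adjM hF X * X = 1) (hdet : X.det = 1) :
    IsURec hF n X.charpoly := by
  have hdeg : X.charpoly.natDegree = n := by rw [Matrix.charpoly_natDegree_eq_dim, Fintype.card_fin]
  refine ⟨Matrix.charpoly_monic _, hdeg, fun i hi => ?_⟩
  have hu : IsUnit X := (Matrix.isUnit_iff_isUnit_det _).mpr (by rw [hdet]; exact isUnit_one)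
  have hinv : X⁻¹ = adjM hF X := Matrix.inv_eq_left_inv hX
  have h1 := Matrix.charpoly_inv X hu
  rw [hinv, adjM, Matrix.charpoly_transpose, Matrix.charpoly_map, hdet, Ring.inverse_one, map_one, mul_one,
    Fintype.card_fin, ← Matrix.reverse_charpoly] at h1
  have h2 := congrArg (fun p : F[X] => p.coeff i) h1
  simp only [coeff_map] at h2
  rw [h2, show ((-1 : F[X]) ^ n) = C ((-1 : F) ^ n) by simp, coeff_C_mul, coeff_reverse, hdeg,
    revAt_le hi]

theorem coeff_zero_of_isURec {f : F[X]} (hf : IsURec hF n f) : (-1 : F) ^ n * f.coeff 0 = 1 := by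
  have h1 := hf.2.2 n le_rfl
  have h2 : f.coeff n = 1 := by rw [← hf.2.1]; exact hf.1
  rw [Nat.sub_self, h2, map_one] at h1
  exact h1.symm

/-- A non-degenerate Hermitian form on `F[X]/(f)` for which the root is an isometry. -/
theorem exists_cyclic_elem_of_isURec {f : F[X]} (hf : IsURec hF n f) (hn : 1 ≤ n) :
    ∃ M : Matrix (Fin n) (Fin n) F, adjM hF M * M = 1 ∧ M.det = 1 ∧ M.charpoly = f ∧
      ∀ P : F[X], Polynomial.aeval M P = 0 → f ∣ P := by
  classical
  obtain ⟨hfm, hfn, hfc⟩ := hf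
  let σ := (conj hF).σ
  let A := AdjoinRoot f
  let ρ : A := AdjoinRoot.root f
  let pb := AdjoinRoot.powerBasis hfm.ne_zero
  haveI : Module.Finite F A := pb.finite
  haveI : Finite A := Module.finite_of_finite F
  have hf0 : f.coeff 0 ≠ 0 := fun h => by
    have := coeff_zero_of_isURec hF ⟨hfm, hfn, hfc⟩
    rw [h, mul_zero] at this
    exact zero_ne_one this
  have hρu : IsUnit ρ := by
    have h1 : ρ * AdjoinRoot.mk f f.divX = -algebraMap F A (f.coeff 0) := by
      rw [eq_neg_iff_add_eq_zero, AdjoinRoot.algebraMap_eq, ← AdjoinRoot.mk_C,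
        show ρ = AdjoinRoot.mk f Polynomial.X from AdjoinRoot.mk_X.symm, ← map_mul,
        ← map_add, X_mul_divX_add, AdjoinRoot.mk_self]
    exact isUnit_of_mul_isUnit_left (x := ρ) (y := AdjoinRoot.mk f f.divX)
      (h1 ▸ ((isUnit_iff_ne_zero.mpr hf0).map (algebraMap F A)).neg)
  -- the involution
  have hroot : eval₂ ((AdjoinRoot.of f).comp σ) (↑hρu.unit⁻¹ : A) f = 0 := by
    have hmap : f.map σ = C ((-1 : F) ^ n) * f.reverse := by
      ext i
      rw [coeff_map, coeff_C_mul, coeff_reverse, hfn]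
      by_cases hi : i ≤ n
      · rw [revAt_le hi]; exact hfc i hi
      · rw [revAt_eq_self_of_lt (by omega), coeff_eq_zero_of_natDegree_lt (by omega), map_zero, mul_zero]
    letI : Invertible ρ := hρu.unit.invertible
    rw [← eval₂_map, hmap, eval₂_mul, show (↑hρu.unit⁻¹ : A) = ⅟ρ from rfl,
      (eval₂_reverse_eq_zero_iff _ _ _).mpr (AdjoinRoot.eval₂_root f), mul_zero]
  let ι : A →+* A := AdjoinRoot.lift ((AdjoinRoot.of f).comp σ) (↑hρu.unit⁻¹ : A) hroot
  have hιof : ∀ c, ι (algebraMap F A c) = algebraMap F A (σ c) := fun c => by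
    rw [AdjoinRoot.algebraMap_eq]; exact AdjoinRoot.lift_of hroot
  have hιρ : ι ρ = ↑hρu.unit⁻¹ := AdjoinRoot.lift_root hroot
  have hιρ' : ι ρ * ρ = 1 := by rw [hιρ]; exact hρu.val_inv_mul
  have hιι : ∀ a, ι (ι a) = a := by
    intro a
    obtain ⟨p, rfl⟩ := AdjoinRoot.mk_surjective a
    induction p using Polynomial.induction_on with
    | C c => rw [AdjoinRoot.mk_C, ← AdjoinRoot.algebraMap_eq, hιof, hιof, (conj hF).hσ2]
    | add p p' hp hp' => rw [map_add, map_add, map_add, hp, hp']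
    | monomial k c ih =>
      have h2 : ι (ι ρ) = ρ := by
        have h3 := congrArg ι hιρ'
        rw [map_mul, map_one] at h3
        calc ι (ι ρ) = ι (ι ρ) * (ι ρ * ρ) := by rw [hιρ', mul_one]
          _ = ρ := by rw [← mul_assoc, h3, one_mul]
      rw [show C c * Polynomial.X ^ (k + 1) = C c * Polynomial.X ^ k * Polynomial.X by ring,
        map_mul (AdjoinRoot.mk f), map_mul ι, map_mul ι, ih, AdjoinRoot.mk_X, h2]
  let ιe : A ≃+* A := { ι with invFun := ι, left_inv := hιι, right_inv := hιι }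
  have hιs : ∀ (c : F) (a : A), ι (c • a) = σ c • ι a := fun c a => by
    rw [Algebra.smul_def, Algebra.smul_def, map_mul, hιof]
  -- the top coefficient
  let φ0 : A →ₗ[F] F := (Polynomial.lcoeff F (n - 1)).comp (AdjoinRoot.modByMonicHom hfm)
  have hφ0nd : ∀ u : A, (∀ a, φ0 (u * a) = 0) → u = 0 := by
    intro u hu
    rw [← AdjoinRoot.mk_leftInverse hfm u]
    set h := AdjoinRoot.modByMonicHom hfm u with hh
    by_contra hne
    have hh0 : h ≠ 0 := fun e => hne (by rw [e, map_zero])
    have hdeg : h.natDegree < n := by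
      obtain ⟨p, rfl⟩ := AdjoinRoot.mk_surjective u
      rw [hh, AdjoinRoot.modByMonicHom_mk hfm]
      refine lt_of_lt_of_eq (natDegree_modByMonic_lt p hfm fun h1 => ?_) hfn
      rw [h1, natDegree_one] at hfn; omega
    have h1 := hu (AdjoinRoot.mk f (Polynomial.X ^ (n - 1 - h.natDegree)))
    rw [← AdjoinRoot.mk_leftInverse hfm u, ← hh, ← map_mul] at h1
    change ((AdjoinRoot.modByMonicHom hfm) (AdjoinRoot.mk f (h * Polynomial.X ^ (n - 1 - h.natDegree)))).coeff (n - 1) = 0 at h1
    rw [AdjoinRoot.modByMonicHom_mk hfm, (modByMonic_eq_self_iff hfm).mpr (by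
        rw [degree_eq_natDegree hfm.ne_zero, degree_mul, degree_X_pow, degree_eq_natDegree hh0, hfn,
          ← Nat.cast_add]
        exact_mod_cast (by omega : h.natDegree + (n - 1 - h.natDegree) < n)), coeff_mul_X_pow',
      if_pos (Nat.sub_le _ _), show n - 1 - (n - 1 - h.natDegree) = h.natDegree by omega] at h1
    exact hh0 (leadingCoeff_eq_zero.mp h1)
  -- the conjugated functional is a unit multiple
  let φ1 : A →ₗ[F] F :=
    { toFun := fun a => σ (φ0 (ι a))
      map_add' := fun a b => by rw [map_add, map_add, map_add]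
      map_smul' := fun c a => by rw [hιs, map_smul, smul_eq_mul, map_mul, (conj hF).hσ2]; rfl }
  let Φ : A → (A →ₗ[F] F) := fun u => φ0.comp (LinearMap.mulLeft F u)
  have hΦ : Function.Injective Φ := fun u u' h => sub_eq_zero.mp (hφ0nd _ fun a => by
    rw [sub_mul, map_sub, sub_eq_zero]; exact LinearMap.congr_fun h a)
  haveI : Finite (A →ₗ[F] F) := Module.finite_of_finite F
  haveI : Fintype A := Fintype.ofFinite _
  haveI : Fintype (A →ₗ[F] F) := Fintype.ofFinite _
  have hcardA : Fintype.card A = Fintype.card (A →ₗ[F] F) := by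
    rw [Module.card_eq_pow_finrank (K := F) (V := A), Module.card_eq_pow_finrank (K := F) (V := A →ₗ[F] F),
      Subspace.dual_finrank_eq]
  obtain ⟨u, hu⟩ := ((Fintype.bijective_iff_injective_and_card Φ).mpr ⟨hΦ, hcardA⟩).2 φ1
  have hu' : ∀ a, φ0 (u * a) = σ (φ0 (ι a)) := fun a => LinearMap.congr_fun hu a
  have huu : u * ι u = 1 := by
    refine sub_eq_zero.mp (hφ0nd _ fun a => ?_)
    rw [sub_mul, one_mul, map_sub, sub_eq_zero, mul_assoc, hu', map_mul, hιι, hu', hιι, (conj hF).hσ2]
  -- solve `u ι c = c` with `c` a unit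
  obtain ⟨r₀, hr₀⟩ : ∃ r : F, σ r ≠ r := by
    obtain ⟨τ, hτ, hne, -⟩ := CfsgLib.UnitaryEmbed.exists_conj hF
    by_contra hall
    push Not at hall
    refine hne (RingHom.ext fun x => ?_)
    rw [hτ, ← (conj hF).hσ]; exact hall x
  let ιu : Aˣ →* Aˣ := Units.map ι.toMonoidHom
  let Nm : Aˣ →* Aˣ := MonoidHom.id Aˣ * ιu
  let Hm : Aˣ →* Aˣ := MonoidHom.id Aˣ / ιu
  let uu : Aˣ := ⟨u, ι u, huu, by rw [mul_comm]; exact huu⟩
  have hιu2 : ∀ c : Aˣ, ιu (ιu c) = c := fun c => Units.ext (hιι _)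
  have hrange : Nm.range = Hm.ker := by
    ext c
    simp only [MonoidHom.mem_range, MonoidHom.mem_ker, Nm, Hm, MonoidHom.mul_apply, MonoidHom.div_apply,
      MonoidHom.id_apply, div_eq_one]
    constructor
    · rintro ⟨a, rfl⟩; rw [map_mul, hιu2, mul_comm]
    · intro hc
      obtain ⟨a, ha⟩ := IsomConj.exists_norm_eq ιe hιι (algebraMap F A r₀) (by
        show IsUnit (algebraMap F A r₀ - ι (algebraMap F A r₀))
        rw [hιof, ← map_sub]
        exact (isUnit_iff_ne_zero.mpr (sub_ne_zero.mpr (Ne.symm hr₀))).map _) c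
        (show ι c = (c : A) from congrArg Units.val hc.symm)
      have hau : IsUnit a := isUnit_of_mul_isUnit_right (x := ι a) (y := a) (show IsUnit (ι a * a) by
        rw [show ι a * a = (c : A) from ha]; exact c.isUnit)
      exact ⟨hau.unit, Units.ext (by
        show a * ι a = c
        rw [mul_comm]; exact ha)⟩
  have hker : Hm.range = Nm.ker := by
    refine Subgroup.eq_of_le_of_card_ge ?_ (le_of_eq ?_)
    · rintro _ ⟨a, rfl⟩
      simp only [MonoidHom.mem_ker, Nm, Hm, MonoidHom.mul_apply, MonoidHom.div_apply, MonoidHom.id_apply, _root_.map_div,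
        hιu2]
      rw [mul_comm (ιu a) a, div_self']
    · have e1 := Subgroup.card_mul_index Hm.ker
      rw [Subgroup.index_ker] at e1
      have e2 := Subgroup.card_mul_index Nm.ker
      rw [Subgroup.index_ker, hrange, mul_comm] at e2
      exact Nat.eq_of_mul_eq_mul_left Nat.card_pos (e2.trans e1.symm)
  obtain ⟨c, hc⟩ : uu ∈ Hm.range := by
    rw [hker, MonoidHom.mem_ker]
    exact Units.ext huu
  have hcc : u * ι c = (c : A) := by
    have h1 : c = uu * ιu c := div_eq_iff_eq_mul.mp hc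
    conv_rhs => rw [h1]
    rfl
  -- the form
  let τ : F →+* F := σ
  let B : A →ₛₗ[τ] A →ₗ[F] F :=
    LinearMap.mk₂'ₛₗ τ (RingHom.id F) (fun a b => φ0 (c * b * ι a))
      (fun a a' b => by rw [map_add, mul_add, map_add])
      (fun r a b => by rw [hιs, mul_smul_comm, map_smul])
      (fun a b b' => by rw [mul_add, add_mul, map_add])
      (fun r a b => by rw [mul_smul_comm, smul_mul_assoc, map_smul]; rfl)
  have hB : ∀ a b, B a b = φ0 (c * b * ι a) := fun a b => rfl
  have hBS : ∀ a b, τ (B a b) = B b a := fun a b => by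
    rw [hB, hB]
    have h1 : (c * a * ι b : A) = u * ι (c * b * ι a) := by
      rw [map_mul, map_mul, hιι, ← mul_assoc u, ← mul_assoc u, hcc]; ring
    rw [h1, hu', hιι]
  have hBnd : B.SeparatingLeft := fun a ha => by
    have h1 : ι a = 0 := hφ0nd _ fun z => by
      have := ha ((↑c⁻¹ : A) * z)
      rw [hB, ← mul_assoc, Units.mul_inv, one_mul, mul_comm] at this
      exact this
    rw [← hιι a, h1, map_zero]
  have hτne : τ ≠ RingHom.id F := fun h => hr₀ (by show τ r₀ = r₀; rw [h]; rfl)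
  obtain ⟨e, he⟩ := CfsgLib.UnitaryEmbed.exists_std_equiv hF τ (fun x => (conj hF).hσ x) hτne (conj hF).hσ2 B hBS hBnd
    (by rw [pb.finrank, AdjoinRoot.powerBasis_dim hfm.ne_zero, hfn])
  let L : (Fin n → F) →ₗ[F] (Fin n → F) := (e.symm.conj) (Algebra.lmul F A ρ)
  let M := LinearMap.toMatrix' L
  have hL : ∀ v, e (L v) = ρ * e v := fun v => by simp [L, LinearEquiv.conj_apply]
  have hpres : ∀ u v, Cfsg.hermForm n F q (M *ᵥ u) (M *ᵥ v) = Cfsg.hermForm n F q u v := fun u v => by
    rw [LinearMap.toMatrix'_mulVec, LinearMap.toMatrix'_mulVec, ← he, ← he, hL, hL, hB, hB, map_mul ι]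
    congr 1
    linear_combination (c * e u * ι (e v)) * hιρ'
  have hM : adjM hF M * M = 1 := by
    refine Matrix.ext_of_mulVec_single fun j => ?_
    refine sub_eq_zero.mp (eq_zero_of_orth hF fun w => ?_)
    rw [← mulVec_mulVec, one_mulVec, (conj hF).sub_right, ← adjM_adj hF, hpres, sub_self]
  have hch : M.charpoly = f := by
    have h1 : L.charpoly = f := by
      rw [LinearEquiv.charpoly_conj, ← LinearMap.charpoly_toMatrix _ pb.basis,
        show (Algebra.lmul F A) ρ = LinearMap.mulLeft F pb.gen by rw [AdjoinRoot.powerBasis_gen]; rfl]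
      have h2 : LinearMap.toMatrix pb.basis pb.basis (LinearMap.mulLeft F pb.gen) =
          Algebra.leftMulMatrix pb.basis pb.gen := (Algebra.leftMulMatrix_apply _ _).symm
      rw [h2, charpoly_leftMulMatrix, AdjoinRoot.minpoly_powerBasis_gen_of_monic hfm]
    rw [← h1, ← LinearMap.charpoly_toMatrix L (Pi.basisFun F _)]
    congr 1
  have hmin : ∀ P : F[X], Polynomial.aeval M P = 0 → f ∣ P := fun P hP => by
    have h1 : Polynomial.aeval L P = 0 := by
      rw [show M = LinearMap.toMatrixAlgEquiv' L from rfl, Polynomial.aeval_algEquiv, AlgHom.comp_apply] at hP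
      exact (map_eq_zero_iff _ LinearMap.toMatrixAlgEquiv'.injective).mp hP
    rw [show L = (LinearEquiv.conjAlgEquiv F e.symm) (Algebra.lmul F A ρ) from rfl, Polynomial.aeval_algEquiv,
      AlgHom.comp_apply] at h1
    have h2 : Polynomial.aeval (Algebra.lmul F A ρ) P = 0 :=
      (map_eq_zero_iff _ (LinearEquiv.conjAlgEquiv F e.symm).injective).mp h1
    rw [Polynomial.aeval_algHom_apply] at h2
    have h3 := LinearMap.congr_fun h2 1
    simp only [Algebra.coe_lmul_eq_mul, LinearMap.mul_apply', mul_one, LinearMap.zero_apply] at h3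
    rwa [AdjoinRoot.aeval_eq, AdjoinRoot.mk_eq_zero] at h3
  refine ⟨M, hM, ?_, hch, hmin⟩
  rw [Matrix.det_eq_sign_charpoly_coeff, hch, Fintype.card_fin, coeff_zero_of_isURec hF ⟨hfm, hfn, hfc⟩]

theorem exists_elem_of_isURec {f : F[X]} (hf : IsURec hF n f) (hn : 1 ≤ n) :
    ∃ M : Matrix (Fin n) (Fin n) F, adjM hF M * M = 1 ∧ M.det = 1 ∧ M.charpoly = f := by
  obtain ⟨M, h1, h2, h3, -⟩ := exists_cyclic_elem_of_isURec hF hf hn
  exact ⟨M, h1, h2, h3⟩

theorem card_isURec (m : ℕ) : Nat.card {f : F[X] // IsURec hF (m + 1) f} = q ^ m := by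
  classical
  let σ := (conj hF).σ
  have hε : ((-1 : F) ^ (m + 1)) * (-1) ^ (m + 1) = 1 := by rw [← mul_pow]; simp
  have hσε : σ ((-1 : F) ^ (m + 1)) = (-1) ^ (m + 1) := by simp
  let T : (Fin m → F) → (Fin m → F) := fun w i => (-1) ^ (m + 1) * σ (w (Fin.rev i))
  have hT : ∀ w, T (T w) = w := fun w => funext fun i => by
    simp only [T, Fin.rev_rev, map_mul, hσε, (conj hF).hσ2, ← mul_assoc, hε, one_mul, σ]
  let Fix := {w : Fin m → F // T w = w}
  -- `F^m = Fix ⊕ c Fix`
  obtain ⟨c, hc⟩ : ∃ c : F, σ c ≠ c := by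
    obtain ⟨τ, hτ, hne, -⟩ := CfsgLib.UnitaryEmbed.exists_conj hF
    by_contra hall
    push Not at hall
    refine hne (RingHom.ext fun x => ?_)
    rw [hτ, ← (conj hF).hσ]; exact hall x
  have hd : c - σ c ≠ 0 := sub_ne_zero.mpr (Ne.symm hc)
  have hTadd : ∀ (r : F) (a b : Fin m → F), T (a + r • b) = T a + σ r • T b := fun r a b => funext fun i => by
    simp [T, σ]; ring
  have hTd : ∀ w, T (w - T w) = -(w - T w) := fun w => by
    rw [show w - T w = w + (-1 : F) • T w by module, hTadd, hT, map_neg, map_one]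
    module
  have hfixcard : Nat.card Fix = q ^ m := by
    let e : Fix × Fix ≃ (Fin m → F) :=
      { toFun := fun p => p.1.1 + c • p.2.1
        invFun := fun w => (⟨w + (-(c / (c - σ c))) • (w - T w), by
            rw [hTadd, hTd]
            have hk : σ (-(c / (c - σ c))) = -(c / (c - σ c)) * (-1) - 1 := by
              have hd' : (conj hF).σ c - c ≠ 0 := sub_ne_zero.mpr hc
              simp only [σ, map_neg, map_div₀, map_sub, (conj hF).hσ2]
              have hd2 : c - (conj hF).σ c ≠ 0 := hd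
              rw [show (conj hF).σ c - c = -(c - (conj hF).σ c) by ring, div_neg, neg_neg]
              field_simp
              ring
            rw [hk]
            module⟩,
          ⟨(c - σ c)⁻¹ • (w - T w), by
            have h0 := hTadd (c - σ c)⁻¹ 0 (w - T w)
            rw [zero_add, hTd] at h0
            have hT0 : T 0 = 0 := funext fun i => by simp [T, σ]
            have hk : σ (c - σ c)⁻¹ = -(c - σ c)⁻¹ := by
              simp only [σ, map_inv₀, map_sub, (conj hF).hσ2]
              rw [show (conj hF).σ c - c = -(c - (conj hF).σ c) by ring, inv_neg]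
            rw [h0, hT0, hk]
            module⟩)
        left_inv := fun p => by
          have e2 : p.1.1 + c • p.2.1 - T (p.1.1 + c • p.2.1) = (c - σ c) • p.2.1 := by
            rw [hTadd, p.1.2, p.2.2, sub_smul]; abel
          refine Prod.ext (Subtype.ext ?_) (Subtype.ext ?_)
          · simp only [e2, smul_smul, neg_mul, div_mul_cancel₀ _ hd, neg_smul]
            abel
          · simp only [e2, smul_smul, inv_mul_cancel₀ hd, one_smul]
        right_inv := fun w => by
          simp only [smul_smul, ← div_eq_mul_inv, neg_smul]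
          abel }
    have h1 := Nat.card_congr e
    rw [Nat.card_prod, Nat.card_fun, Nat.card_eq_fintype_card (α := F), hF, Nat.card_eq_fintype_card (α := Fin m),
      Fintype.card_fin, ← pow_mul] at h1
    refine Nat.pow_left_injective two_ne_zero ?_
    simp only
    rw [pow_two, h1, ← pow_mul, mul_comm]
  rw [← hfixcard, show Nat.card {f : F[X] // IsURec hF (m + 1) f} =
    Nat.card {v : Fin (m + 1) → F // ∀ i ≤ m + 1, σ ((mkPoly v).coeff i) = (-1) ^ (m + 1) * (mkPoly v).coeff (m + 1 - i)} from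
      card_monic (fun f => ∀ i ≤ m + 1, σ (f.coeff i) = (-1) ^ (m + 1) * f.coeff (m + 1 - i))]
  have htop : ∀ v : Fin (m + 1) → F, (mkPoly v).coeff (m + 1) = 1 := fun v => by
    have h := (mkPoly_monic v).1
    rw [Monic, leadingCoeff, (mkPoly_monic v).2] at h
    exact h
  have hco : ∀ (v : Fin (m + 1) → F) (i : Fin m), (mkPoly v).coeff (i.1 + 1) = v i.succ := fun v i =>
    coeff_mkPoly v i.succ
  refine Nat.card_congr
    { toFun := fun v => ⟨Fin.tail v.1, funext fun i => ?_⟩
      invFun := fun w => ⟨Fin.cons ((-1) ^ (m + 1)) w.1, fun i hi => ?_⟩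
      left_inv := fun v => Subtype.ext ?_
      right_inv := fun w => Subtype.ext (by simp) }
  · have h := v.2 ((Fin.rev i).1 + 1) (by omega)
    rw [hco v.1 (Fin.rev i), show m + 1 - ((Fin.rev i).1 + 1) = i.1 + 1 by simp [Fin.val_rev]; omega, hco v.1 i] at h
    show (-1 : F) ^ (m + 1) * σ (v.1 (Fin.rev i).succ) = v.1 i.succ
    rw [h, ← mul_assoc, hε, one_mul]
  · rcases Nat.eq_zero_or_pos i with rfl | hpos
    · rw [coeff_mkPoly_zero, Fin.cons_zero, Nat.sub_zero, htop, mul_one, hσε]
    rcases eq_or_lt_of_le hi with rfl | hlt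
    · rw [htop, Nat.sub_self, coeff_mkPoly_zero, Fin.cons_zero, map_one, hε]
    obtain ⟨j, rfl⟩ : ∃ j, i = j + 1 := ⟨i - 1, by omega⟩
    let jj : Fin m := ⟨j, by omega⟩
    have h1 := congrFun w.2 (Fin.rev jj)
    simp only [T, Fin.rev_rev] at h1
    rw [show m + 1 - (j + 1) = (Fin.rev jj).1 + 1 by simp [Fin.val_rev, jj]; omega, hco _ jj, hco _ (Fin.rev jj),
      Fin.cons_succ, Fin.cons_succ, ← h1, ← mul_assoc, hε, one_mul]
  · have h0 := v.2 (m + 1) le_rfl
    rw [htop, Nat.sub_self, coeff_mkPoly_zero, map_one] at h0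
    funext i
    refine Fin.cases ?_ (fun j => ?_) i
    · dsimp only
      rw [Fin.cons_zero]
      linear_combination (-1 : F) ^ (m + 1) * h0 + (v.1 0) * hε
    · dsimp only
      rw [Fin.cons_succ]; rfl

theorem card_SU_semisimple_classes (p : ℕ) [Fact p.Prime] [CharP F p] (hn : 1 ≤ n) :
    Nat.card {c : ConjClasses ↥(Cfsg.SU n F q) //
      ∃ g : ↥(Cfsg.SU n F q), ConjClasses.mk g = c ∧ (orderOf g).Coprime p} = q ^ (n - 1) := by
  classical
  let φ : ↥(Cfsg.SU n F q) →* Matrix (Fin n) (Fin n) F :=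
    { toFun := fun a => a.1.1, map_one' := rfl, map_mul' := fun _ _ => rfl }
  have hφ : ∀ x, adjM hF (φ x) * φ x = 1 ∧ (φ x).det = 1 := fun x =>
    ⟨(mem_GU_adjM hF).mp (CfsgLib.ClassicalGroups.mem_SU_iff_toGL.mp x.2), x.1.2⟩
  rw [PrimeClasses.card_classes (G := ↥(Cfsg.SU n F q)) (fun g => (orderOf g).Coprime p)
    (fun g => (φ g).charpoly) (fun f => IsURec hF n f) ?_ ?_ ?_ ?_]
  · obtain ⟨m, rfl⟩ : ∃ m, n = m + 1 := ⟨n - 1, by omega⟩
    rw [card_isURec hF m, Nat.add_sub_cancel]
  · intro x y _ h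
    obtain ⟨c, rfl⟩ := isConj_iff.mp h
    show _ = Matrix.charpoly (φ (c * x * c⁻¹))
    rw [map_mul, map_mul]
    let cu : (Matrix (Fin n) (Fin n) F)ˣ := ⟨φ c, φ c⁻¹, by rw [← map_mul, mul_inv_cancel, map_one],
      by rw [← map_mul, inv_mul_cancel, map_one]⟩
    show _ = Matrix.charpoly ((cu : Matrix (Fin n) (Fin n) F) * φ x * ((cu⁻¹ : (Matrix (Fin n) (Fin n) F)ˣ) : Matrix (Fin n) (Fin n) F))
    rw [Matrix.coe_units_inv, Matrix.charpoly_units_conj]
  · exact fun x y hx hy h => SU_isConj_of_charpoly_eq hF p x y hx hy h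
  · exact fun x _ => isURec_charpoly hF _ (hφ x).1 (hφ x).2
  · intro f hf
    obtain ⟨M, hM, hdet, hch⟩ := exists_elem_of_isURec hF hf hn
    let g₀ : Matrix.SpecialLinearGroup (Fin n) F := ⟨M, hdet⟩
    have hmem : g₀ ∈ Cfsg.SU n F q := by
      rw [CfsgLib.ClassicalGroups.mem_SU_iff_toGL, mem_GU_adjM hF]
      exact hM
    obtain ⟨s, hs, hsc⟩ := exists_semisimple p φ ⟨_, hmem⟩
    exact ⟨s, hs, hsc.trans hch⟩

end CfsgLib.SemisimpleClass
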