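import Cfsg.Agent.Lib.SemisimpleClass.Classes
import Cfsg.Agent.Lib.CharBound.SUBasic
import Cfsg.Agent.Lib.IsomConj.Unitary
import Cfsg.Agent.Lib.ClassicalGroups.HermGroup

set_option autoImplicit false

/-!
The centraliser in `GU_n(q)` of a semisimple element has all determinants of norm one; hence semisimple elements
of `SU_n(q)` with one characteristic polynomial are conjugate in `SU_n(q)`.
-/

namespace CfsgLib.SemisimpleClass

open Polynomial Matrix CfsgLib.CharBound.SUn Module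
open CfsgLib.RegUnipU (Conj)

variable {F : Type*} [Field F] [Fintype F] {n q : ℕ} (hF : Fintype.card F = q ^ 2)
include hF

local notation "hh" => Cfsg.hermForm n F q

/-- The conjugate transpose. -/
def adjM (M : Matrix (Fin n) (Fin n) F) : Matrix (Fin n) (Fin n) F := (M.map (conj hF).σ)ᵀ

theorem adjM_adj (M : Matrix (Fin n) (Fin n) F) (u v : Fin n → F) :
    hh (M *ᵥ u) v = hh u (adjM hF M *ᵥ v) := by
  rw [(conj hF).form_eq, (conj hF).form_eq]
  simp only [adjM, Matrix.mulVec, dotProduct, transpose_apply, map_apply, map_sum, map_mul, (conj hF).hσ2,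
    Finset.sum_mul, Finset.mul_sum]
  rw [Finset.sum_comm]
  exact Finset.sum_congr rfl fun i _ => Finset.sum_congr rfl fun j _ => by ring

theorem adjM_mul (M N : Matrix (Fin n) (Fin n) F) : adjM hF (M * N) = adjM hF N * adjM hF M := by
  simp only [adjM, Matrix.map_mul, transpose_mul]

theorem adjM_one : adjM hF (1 : Matrix (Fin n) (Fin n) F) = 1 := by
  rw [adjM, Matrix.map_one _ (map_zero _) (map_one _), transpose_one]

theorem adjM_adjM (M : Matrix (Fin n) (Fin n) F) : adjM hF (adjM hF M) = M := by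
  ext i j; simp [adjM, (conj hF).hσ2]

theorem det_adjM (M : Matrix (Fin n) (Fin n) F) : (adjM hF M).det = (conj hF).σ M.det := by
  rw [adjM, det_transpose, RingHom.map_det]; rfl

theorem eq_zero_of_orth {v : Fin n → F} (h : ∀ u, hh u v = 0) : v = 0 := by
  funext i
  have h1 := h (Pi.single i 1)
  rw [(conj hF).form_eq, Fintype.sum_eq_single i (fun j hj => by simp [hj]), Pi.single_eq_same, one_mul] at h1
  exact (map_eq_zero _).mp h1

theorem mem_GU_adjM {g : GL (Fin n) F} :
    g ∈ Cfsg.GU n F q ↔ adjM hF (g : Matrix (Fin n) (Fin n) F) * g = 1 := by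
  rw [IsomConj.mem_GU_iff_ctr hF]
  have : IsomConj.ctr q (g : Matrix (Fin n) (Fin n) F) = adjM hF (g : Matrix (Fin n) (Fin n) F) := by
    ext i j; simp [IsomConj.ctr, adjM, (conj hF).hσ]
  rw [this]

/-- The orthogonal subspace. -/
def perpS (S : Submodule F (Fin n → F)) : Submodule F (Fin n → F) where
  carrier := {v | ∀ s ∈ S, hh v s = 0}
  zero_mem' _ _ := (conj hF).zero_left _
  add_mem' ha hb s hs := by rw [(conj hF).add_left, ha s hs, hb s hs, add_zero]
  smul_mem' r _ ha s hs := by rw [(conj hF).smul_left, ha s hs, mul_zero]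

theorem isCompl_perpS {S : Submodule F (Fin n → F)} (hS : ∀ s ∈ S, (∀ t ∈ S, hh s t = 0) → s = 0) :
    IsCompl S (perpS hF S) := by
  classical
  refine ⟨Submodule.disjoint_def.mpr fun s hs hs' => hS s hs hs', codisjoint_iff.mpr (eq_top_iff.mpr fun v _ => ?_)⟩
  let Φ : S → (S →ₗ[F] F) := fun p =>
    { toFun := fun t => hh t.1 p.1
      map_add' := fun a b => (conj hF).add_left _ _ _
      map_smul' := fun r a => (conj hF).smul_left _ _ _ }
  have hinj : Function.Injective Φ := by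
    intro p p' h
    refine Subtype.ext (sub_eq_zero.mp (hS _ (sub_mem p.2 p'.2) fun t ht => ?_))
    have h1 : hh t p.1 = hh t p'.1 := LinearMap.congr_fun h ⟨t, ht⟩
    rw [symm_conj hF t (p.1 - p'.1), (conj hF).sub_right, h1, sub_self, map_zero]
  haveI : Finite (S →ₗ[F] F) := Module.finite_of_finite F
  haveI : Fintype S := Fintype.ofFinite _
  haveI : Fintype (S →ₗ[F] F) := Fintype.ofFinite _
  have hcard : Fintype.card S = Fintype.card (S →ₗ[F] F) := by
    rw [Module.card_eq_pow_finrank (K := F) (V := S), Module.card_eq_pow_finrank (K := F) (V := S →ₗ[F] F),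
      Subspace.dual_finrank_eq]
  obtain ⟨p, hp⟩ := ((Fintype.bijective_iff_injective_and_card Φ).mpr ⟨hinj, hcard⟩).2
    { toFun := fun t => hh t.1 v
      map_add' := fun a b => (conj hF).add_left _ _ _
      map_smul' := fun r a => (conj hF).smul_left _ _ _ }
  refine Submodule.mem_sup.mpr ⟨p.1, p.2, v - p.1, fun s hs => ?_, add_sub_cancel _ _⟩
  have h1 : hh s p.1 = hh s v := LinearMap.congr_fun hp ⟨s, hs⟩
  rw [symm_conj hF s (v - p.1), (conj hF).sub_right, h1, sub_self, map_zero]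

omit hF in
/-- Multiplication on a cyclic summand and the identity on a complement. -/
theorem exists_block {V : Type*} [AddCommGroup V] [Module F V] [FiniteDimensional F V] {g : F[X]}
    [Fact (Irreducible g)] (φ : AdjoinRoot g →ₗ[F] V) (hφ : Function.Injective φ) (T : Submodule F V)
    (hc : IsCompl (LinearMap.range φ) T) (u : AdjoinRoot g) :
    ∃ B : Module.End F V, (∀ z, B (φ z) = φ (u * z)) ∧ (∀ t ∈ T, B t = t) ∧
      LinearMap.det B = Algebra.norm F u := by
  let ex := LinearEquiv.ofInjective φ hφ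
  let P := Submodule.prodEquivOfIsCompl _ T hc
  refine ⟨P.conj ((ex.conj (Algebra.lmul F (AdjoinRoot g) u)).prodMap LinearMap.id), fun z => ?_, fun t ht => ?_, ?_⟩
  · have h1 : φ z = P (ex z, 0) := by simp [P, ex]
    rw [h1, LinearEquiv.conj_apply_apply, LinearEquiv.symm_apply_apply]
    simp [P, ex, LinearEquiv.conj_apply]
  · have h1 : t = P (0, ⟨t, ht⟩) := by simp [P]
    conv_lhs => rw [h1]
    rw [LinearEquiv.conj_apply_apply, LinearEquiv.symm_apply_apply]
    simp [P]
  · rw [LinearEquiv.conj_apply, LinearMap.comp_assoc, LinearMap.det_conj, LinearMap.det_prodMap, LinearMap.det_id,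
      mul_one, LinearEquiv.conj_apply, LinearMap.comp_assoc, LinearMap.det_conj, Algebra.norm_apply]

omit hF in
/-- An equivariant endomorphism of a cyclic summand is a multiplication. -/
theorem equivariant_eq_mul {g : F[X]} [Fact (Irreducible g)] (L : AdjoinRoot g →ₗ[F] AdjoinRoot g)
    (h : ∀ z, L (AdjoinRoot.root g * z) = AdjoinRoot.root g * L z) (z : AdjoinRoot g) : L z = L 1 * z := by
  obtain ⟨p, rfl⟩ := AdjoinRoot.mk_surjective z
  induction p using Polynomial.induction_on with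
  | C c =>
    rw [AdjoinRoot.mk_C, ← AdjoinRoot.algebraMap_eq, ← mul_one (algebraMap F (AdjoinRoot g) c),
      ← Algebra.smul_def, map_smul, mul_smul_comm, mul_one]
  | add p p' hp hp' => rw [map_add, map_add, hp, hp', mul_add]
  | monomial k c ih =>
    rw [show C c * X ^ (k + 1) = X * (C c * X ^ k) by ring, map_mul (AdjoinRoot.mk g), AdjoinRoot.mk_X, h, ih]
    ring

/-- A normal element of the centraliser with any given determinant. -/
theorem exists_normal_commute_det (hn : 0 < n) (X : Matrix (Fin n) (Fin n) F) (hX : adjM hF X * X = 1)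
    {N : ℕ} (hN : (N : F) ≠ 0) (hXN : X ^ N = 1) {d : F} (hd : d ≠ 0) :
    ∃ B : Matrix (Fin n) (Fin n) F, B * X = X * B ∧ B * adjM hF B = adjM hF B * B ∧ B.det = d := by
  classical
  let x : Module.End F (Fin n → F) := Matrix.toLinAlgEquiv' X
  have hxv : ∀ v, x v = X *ᵥ v := fun v => rfl
  have hxN : x ^ N = 1 := by rw [← map_pow, hXN, map_one]
  have hXX : X * adjM hF X = 1 := mul_eq_one_comm.mp hX
  have hform : ∀ u v, hh (X *ᵥ u) (X *ᵥ v) = hh u v := fun u v => by
    rw [adjM_adj hF, mulVec_mulVec, hX, one_mulVec]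
  haveI : Nonempty (Fin n) := ⟨⟨0, hn⟩⟩
  -- the inverse preserves invariant subspaces
  have hsurj : ∀ S : Submodule F (Fin n → F), (∀ s ∈ S, x s ∈ S) → ∀ s ∈ S, ∃ s' ∈ S, x s' = s := by
    intro S hS s hs
    have hinj : Function.Injective (x.restrict hS) := fun a b h => Subtype.ext (by
      have h1 := congrArg (fun w : Fin n → F => adjM hF X *ᵥ w) (congrArg Subtype.val h)
      simpa [hxv, mulVec_mulVec, hX] using h1)
    obtain ⟨s', h⟩ := (LinearMap.injective_iff_surjective).mp hinj ⟨s, hs⟩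
    exact ⟨s'.1, s'.2, congrArg Subtype.val h⟩
  have hperp : ∀ S : Submodule F (Fin n → F), (∀ s ∈ S, x s ∈ S) → ∀ v ∈ perpS hF S, x v ∈ perpS hF S := by
    intro S hS v hv s hs
    obtain ⟨s', hs', rfl⟩ := hsurj S hS s hs
    rw [hxv, hxv, hform]
    exact hv s' hs'
  -- commutation with `X` on a decomposition
  have hcommX : ∀ {g : F[X]} [Fact (Irreducible g)] (φ : AdjoinRoot g →ₗ[F] (Fin n → F)),
      (∀ z, x (φ z) = φ (AdjoinRoot.root g * z)) → ∀ (T : Submodule F (Fin n → F)), (∀ t ∈ T, x t ∈ T) →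
      IsCompl (LinearMap.range φ) T → ∀ (B : Module.End F (Fin n → F)) (u : AdjoinRoot g),
      (∀ z, B (φ z) = φ (u * z)) → (∀ t ∈ T, B t = t) → ∀ v, B (x v) = x (B v) := by
    intro g _ φ hφ T hT hc B u hB1 hB2 v
    obtain ⟨s, hs, t, ht, rfl⟩ := Submodule.mem_sup.mp (hc.sup_eq_top ▸ Submodule.mem_top (x := v))
    obtain ⟨z, rfl⟩ := hs
    rw [map_add, map_add, map_add, hφ, hB1, hB2 _ (hT t ht), hB1, hB2 t ht, map_add, hφ, mul_left_comm]
  -- from an endomorphism to the conclusion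
  have conclude : ∀ B : Module.End F (Fin n → F), (∀ v, B (x v) = x (B v)) → LinearMap.det B = d →
      (∀ v, B (adjM hF (LinearMap.toMatrix' B) *ᵥ v) = adjM hF (LinearMap.toMatrix' B) *ᵥ B v) →
      ∃ M : Matrix (Fin n) (Fin n) F, M * X = X * M ∧ M * adjM hF M = adjM hF M * M ∧ M.det = d := by
    intro B hBX hBd hBn
    refine ⟨LinearMap.toMatrix' B, Matrix.ext_of_mulVec_single fun j => ?_,
      Matrix.ext_of_mulVec_single fun j => ?_, by rw [LinearMap.det_toMatrix', hBd]⟩
    · rw [← mulVec_mulVec, ← mulVec_mulVec, LinearMap.toMatrix'_mulVec, LinearMap.toMatrix'_mulVec]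
      exact hBX _
    · rw [← mulVec_mulVec, ← mulVec_mulVec, LinearMap.toMatrix'_mulVec, LinearMap.toMatrix'_mulVec]
      exact hBn _
  have hadjB : ∀ (B : Module.End F (Fin n → F)) u v, hh u (adjM hF (LinearMap.toMatrix' B) *ᵥ v) = hh (B u) v :=
    fun B u v => by rw [← adjM_adj hF, LinearMap.toMatrix'_mulVec]
  by_cases hA : ∃ (g : F[X]) (_ : Fact (Irreducible g)) (φ : AdjoinRoot g →ₗ[F] (Fin n → F)),
      Function.Injective φ ∧ (∀ z, x (φ z) = φ (AdjoinRoot.root g * z)) ∧
      ∀ s ∈ LinearMap.range φ, (∀ t ∈ LinearMap.range φ, hh s t = 0) → s = 0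
  · obtain ⟨g, hgf, φ, hφi, hφ, hnd⟩ := hA
    haveI : FiniteDimensional F (AdjoinRoot g) := (AdjoinRoot.powerBasis hgf.out.ne_zero).finite
    haveI : Finite (AdjoinRoot g) := Module.finite_of_finite F
    obtain ⟨u, hu⟩ := FiniteField.norm_surjective F (AdjoinRoot g) d
    have hc := isCompl_perpS hF hnd
    have hSinv : ∀ s ∈ LinearMap.range φ, x s ∈ LinearMap.range φ := by
      rintro _ ⟨z, rfl⟩; exact ⟨_, (hφ z).symm⟩
    obtain ⟨B, hB1, hB2, hBd⟩ := exists_block φ hφi _ hc u
    have hBX := hcommX φ hφ _ (hperp _ hSinv) hc B u hB1 hB2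
    refine conclude B hBX (hBd.trans hu) fun v => ?_
    set τB := adjM hF (LinearMap.toMatrix' B) with hτB
    -- the adjoint fixes the orthogonal complement and preserves the summand
    have hτfix : ∀ t ∈ perpS hF (LinearMap.range φ), τB *ᵥ t = t := by
      intro t ht
      refine sub_eq_zero.mp (eq_zero_of_orth hF fun w => ?_)
      obtain ⟨s, ⟨z, rfl⟩, t', ht', rfl⟩ := Submodule.mem_sup.mp (hc.sup_eq_top ▸ Submodule.mem_top (x := w))
      rw [(conj hF).sub_right, hadjB, map_add, hB1, hB2 t' ht', (conj hF).add_left, (conj hF).add_left,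
        (conj hF).flip_zero (ht _ ⟨_, rfl⟩), (conj hF).flip_zero (ht _ ⟨z, rfl⟩), sub_self]
    have hτmem : ∀ s ∈ LinearMap.range φ, τB *ᵥ s ∈ LinearMap.range φ := by
      intro s hs
      obtain ⟨s', hs', t', ht', h⟩ := Submodule.mem_sup.mp (hc.sup_eq_top ▸ Submodule.mem_top (x := τB *ᵥ s))
      have h0 : t' = 0 := eq_zero_of_orth hF fun w => by
        obtain ⟨a, ha, b, hb, rfl⟩ := Submodule.mem_sup.mp (hc.sup_eq_top ▸ Submodule.mem_top (x := w))
        have h1 : hh b (τB *ᵥ s) = 0 := by rw [hadjB, hB2 b hb]; exact hb s hs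
        rw [← h, (conj hF).add_right, hb s' hs', zero_add] at h1
        rw [(conj hF).add_left, (conj hF).flip_zero (ht' a ha), h1, add_zero]
      rw [← h, h0, add_zero]; exact hs'
    -- it is a multiplication on the summand
    let ex := LinearEquiv.ofInjective φ hφi
    let L : AdjoinRoot g →ₗ[F] AdjoinRoot g :=
      ex.symm.toLinearMap.comp (((Matrix.toLin' τB).comp φ).codRestrict (LinearMap.range φ) fun z => by
        show τB *ᵥ φ z ∈ _
        exact hτmem _ ⟨z, rfl⟩)
    have hL : ∀ z, φ (L z) = τB *ᵥ φ z := fun z => by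
      show φ (ex.symm ⟨τB *ᵥ φ z, _⟩) = _
      exact congrArg Subtype.val (ex.apply_symm_apply ⟨τB *ᵥ φ z, hτmem _ ⟨z, rfl⟩⟩)
    have hτX : ∀ w, τB *ᵥ (X *ᵥ w) = X *ᵥ (τB *ᵥ w) := by
      intro w
      refine sub_eq_zero.mp (eq_zero_of_orth hF fun u' => ?_)
      obtain ⟨u', -, rfl⟩ := hsurj ⊤ (fun _ _ => trivial) u' trivial
      rw [(conj hF).sub_right, hadjB, hBX, hxv, hform, hxv, hform, hadjB, sub_self]
    have hLmul := equivariant_eq_mul L fun z => hφi (by rw [hL, ← hφ, ← hφ, hxv, hxv, hτX, hL])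
    obtain ⟨s, ⟨z, rfl⟩, t, ht, rfl⟩ := Submodule.mem_sup.mp (hc.sup_eq_top ▸ Submodule.mem_top (x := v))
    rw [mulVec_add, map_add, map_add, hτfix t ht, hB2 t ht, mulVec_add, hτfix t ht, hB1, ← hL, ← hL, hB1, hLmul z,
      hLmul (u * z)]
    ring_nf
  · push Not at hA
    -- every irreducible invariant subspace is totally isotropic
    have hiso : ∀ (g : F[X]) [Fact (Irreducible g)] (φ : AdjoinRoot g →ₗ[F] (Fin n → F)),
        Function.Injective φ → (∀ z, x (φ z) = φ (AdjoinRoot.root g * z)) →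
        ∀ a b, hh (φ a) (φ b) = 0 := by
      intro g hgf φ hφi hφ
      obtain ⟨s, ⟨a₀, rfl⟩, hs, hs0⟩ := hA g hgf φ hφi hφ
      intro a b
      -- the radical is an ideal containing `a₀`
      have hmul : ∀ (c : AdjoinRoot g) (z : AdjoinRoot g), (∀ b, hh (φ z) (φ b) = 0) → ∀ b, hh (φ (c * z)) (φ b) = 0 := by
        intro c z hz
        obtain ⟨p, rfl⟩ := AdjoinRoot.mk_surjective c
        induction p using Polynomial.induction_on with
        | C k =>
          intro b
          rw [AdjoinRoot.mk_C, ← AdjoinRoot.algebraMap_eq, ← Algebra.smul_def, map_smul, (conj hF).smul_left, hz,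
            mul_zero]
        | add p p' hp hp' => intro b; rw [map_add, add_mul, map_add, (conj hF).add_left, hp, hp', add_zero]
        | monomial k k' ih =>
          intro b
          have hb : ∃ b', x (φ b') = φ b := by
            haveI := hgf
            by_cases hr : AdjoinRoot.root g = 0
            · exfalso
              have h1 := hφ 1
              rw [hr, zero_mul, map_zero, hxv] at h1
              have h2 := congrArg (fun w => adjM hF X *ᵥ w) h1
              simp only [mulVec_mulVec, hX, one_mulVec, mulVec_zero] at h2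
              exact one_ne_zero (hφi (h2.trans (map_zero φ).symm))
            · exact ⟨(AdjoinRoot.root g)⁻¹ * b, by rw [hφ, ← mul_assoc, mul_inv_cancel₀ hr, one_mul]⟩
          obtain ⟨b', hb'⟩ := hb
          rw [show C k' * Polynomial.X ^ (k + 1) = Polynomial.X * (C k' * Polynomial.X ^ k) by ring, map_mul (AdjoinRoot.mk g), AdjoinRoot.mk_X,
            mul_assoc, ← hφ, ← hb', hxv, hxv, hform, ih]
      haveI := hgf
      have ha₀ : a₀ ≠ 0 := fun h => hs0 (by rw [h, map_zero])
      have := hmul (a * a₀⁻¹) a₀ (fun b => hs _ ⟨b, rfl⟩) b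
      rwa [mul_assoc, inv_mul_cancel₀ ha₀, mul_one] at this
    have hcp : ¬ IsUnit (LinearMap.charpoly x) := fun h => by
      have := Polynomial.natDegree_eq_zero_of_isUnit h
      rw [LinearMap.charpoly_natDegree, Module.finrank_fin_fun] at this
      omega
    obtain ⟨g, -, hg, hdvd⟩ := Polynomial.exists_monic_irreducible_factor _ hcp
    haveI := Fact.mk hg
    haveI : FiniteDimensional F (AdjoinRoot g) := (AdjoinRoot.powerBasis hg.ne_zero).finite
    haveI : Finite (AdjoinRoot g) := Module.finite_of_finite F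
    obtain ⟨v, hv0, hv⟩ := exists_ker_of_dvd_charpoly x hg hdvd
    obtain ⟨φ, hφi, hφ1, hφ⟩ := exists_cyclic_embed x hg hv0 hv
    have hSinv : ∀ s ∈ LinearMap.range φ, x s ∈ LinearMap.range φ := by
      rintro _ ⟨z, rfl⟩; exact ⟨_, (hφ z).symm⟩
    obtain ⟨T, hT, hcT⟩ := exists_invariant_compl x hN hxN _ (hperp _ hSinv)
    haveI : Nontrivial T := by
      rw [Submodule.nontrivial_iff_ne_bot]
      intro h
      rw [h] at hcT
      have htop : perpS hF (LinearMap.range φ) = ⊤ := by simpa using hcT.sup_eq_top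
      exact hv0 (eq_zero_of_orth hF fun w => (htop ▸ Submodule.mem_top (x := w) : w ∈ perpS hF (LinearMap.range φ)) v
        ⟨1, hφ1⟩)
    obtain ⟨g', -, hg', hdvd'⟩ := Polynomial.exists_monic_irreducible_factor (x.restrict hT).charpoly (fun h => by
      have h1 := Polynomial.natDegree_eq_zero_of_isUnit h
      rw [LinearMap.charpoly_natDegree] at h1
      exact absurd h1 (Nat.pos_iff_ne_zero.mp Module.finrank_pos))
    haveI := Fact.mk hg'
    obtain ⟨v', hv'0, hv'⟩ := exists_ker_of_dvd_charpoly (x.restrict hT) hg' hdvd'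
    obtain ⟨ψ₀, hψ₀i, -, hψ₀⟩ := exists_cyclic_embed (x.restrict hT) hg' hv'0 hv'
    let ψ : AdjoinRoot g' →ₗ[F] (Fin n → F) := T.subtype.comp ψ₀
    have hψi : Function.Injective ψ := Subtype.val_injective.comp hψ₀i
    have hψ : ∀ z, x (ψ z) = ψ (AdjoinRoot.root g' * z) := fun z => congrArg Subtype.val (hψ₀ z)
    have hψmem : ∀ z, ψ z ∈ T := fun z => (ψ₀ z).2
    set S₁ := LinearMap.range φ with hS₁
    set S₂ := LinearMap.range ψ with hS₂
    have hi1 : ∀ a ∈ S₁, ∀ b ∈ S₁, hh a b = 0 := by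
      rintro _ ⟨a, rfl⟩ _ ⟨b, rfl⟩; exact hiso g φ hφi hφ a b
    have hi2 : ∀ a ∈ S₂, ∀ b ∈ S₂, hh a b = 0 := by
      rintro _ ⟨a, rfl⟩ _ ⟨b, rfl⟩; exact hiso g' ψ hψi hψ a b
    -- the pairing is non-degenerate on both sides
    have hp2 : ∀ b ∈ S₂, (∀ a ∈ S₁, hh b a = 0) → b = 0 := by
      rintro _ ⟨b, rfl⟩ h
      exact Submodule.disjoint_def.mp hcT.disjoint _ h (hψmem b)
    have hp1 : ∀ a ∈ S₁, (∀ b ∈ S₂, hh a b = 0) → a = 0 := by
      intro a ha h
      -- the annihilator of `S₂` in `S₁` is invariant, hence zero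
      by_contra ha0
      obtain ⟨a, rfl⟩ := ha
      have hne : a ≠ 0 := fun e => ha0 (by rw [e, map_zero])
      have hall : ∀ c : AdjoinRoot g, ∀ b ∈ S₂, hh (φ (c * a)) b = 0 := by
        intro c
        obtain ⟨p, rfl⟩ := AdjoinRoot.mk_surjective c
        induction p using Polynomial.induction_on with
        | C k =>
          intro b hb
          rw [AdjoinRoot.mk_C, ← AdjoinRoot.algebraMap_eq, ← Algebra.smul_def, map_smul, (conj hF).smul_left,
            h b hb, mul_zero]
        | add p p' hp hp' =>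
          intro b hb; rw [map_add, add_mul, map_add, (conj hF).add_left, hp b hb, hp' b hb, add_zero]
        | monomial k k' ih =>
          intro b hb
          obtain ⟨b', hb', rfl⟩ := hsurj S₂ (by rintro _ ⟨z, rfl⟩; exact ⟨_, (hψ z).symm⟩) b hb
          rw [show C k' * Polynomial.X ^ (k + 1) = Polynomial.X * (C k' * Polynomial.X ^ k) by ring, map_mul (AdjoinRoot.mk g), AdjoinRoot.mk_X,
            mul_assoc, ← hφ, hxv, hxv, hform, ih b' hb']
      obtain ⟨z, hz⟩ : ∃ z, ψ z ≠ 0 := ⟨1, fun e => one_ne_zero (hψi (e.trans (map_zero ψ).symm))⟩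
      refine hz (hp2 _ ⟨z, rfl⟩ ?_)
      rintro _ ⟨c, rfl⟩
      have := hall (c * a⁻¹) (ψ z) ⟨z, rfl⟩
      rw [mul_assoc, inv_mul_cancel₀ hne, mul_one] at this
      exact (conj hF).flip_zero this
    -- the summand `W` and the complement of `S₁`
    have hW : ∀ w ∈ S₁ ⊔ S₂, (∀ w' ∈ S₁ ⊔ S₂, hh w w' = 0) → w = 0 := by
      intro w hw h
      obtain ⟨a, ha, b, hb, rfl⟩ := Submodule.mem_sup.mp hw
      have hb0 : b = 0 := hp2 b hb fun a' ha' => by
        have := h a' (Submodule.mem_sup_left ha')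
        rwa [(conj hF).add_left, hi1 a ha a' ha', zero_add] at this
      subst hb0
      rw [add_zero] at h ⊢
      exact hp1 a ha fun b' hb' => h b' (Submodule.mem_sup_right hb')
    have hcW := isCompl_perpS hF hW
    have hWinv : ∀ w ∈ S₁ ⊔ S₂, x w ∈ S₁ ⊔ S₂ := by
      intro w hw
      obtain ⟨_, ⟨a, rfl⟩, _, ⟨b, rfl⟩, rfl⟩ := Submodule.mem_sup.mp hw
      rw [map_add, hφ, hψ]
      exact add_mem (Submodule.mem_sup_left ⟨_, rfl⟩) (Submodule.mem_sup_right ⟨_, rfl⟩)
    let T' := S₂ ⊔ perpS hF (S₁ ⊔ S₂)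
    have hT' : ∀ t ∈ T', x t ∈ T' := by
      intro t ht
      obtain ⟨_, ⟨b, rfl⟩, p, hp, rfl⟩ := Submodule.mem_sup.mp ht
      rw [map_add, hψ]
      exact add_mem (Submodule.mem_sup_left ⟨_, rfl⟩) (Submodule.mem_sup_right (hperp _ hWinv p hp))
    have hdec : ∀ w : Fin n → F, ∃ a ∈ S₁, ∃ b ∈ S₂, ∃ p ∈ perpS hF (S₁ ⊔ S₂), w = a + b + p := by
      intro w
      obtain ⟨s, hs, p, hp, rfl⟩ := Submodule.mem_sup.mp (hcW.sup_eq_top ▸ Submodule.mem_top (x := w))
      obtain ⟨a, ha, b, hb, rfl⟩ := Submodule.mem_sup.mp hs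
      exact ⟨a, ha, b, hb, p, hp, rfl⟩
    have hc' : IsCompl S₁ T' := by
      refine ⟨Submodule.disjoint_def.mpr fun a ha ha' => hp1 a ha fun b hb => ?_,
        codisjoint_iff.mpr (eq_top_iff.mpr fun w _ => ?_)⟩
      · obtain ⟨b₁, hb₁, p, hp, rfl⟩ := Submodule.mem_sup.mp ha'
        rw [(conj hF).add_left, hi2 b₁ hb₁ b hb, hp b (Submodule.mem_sup_right hb), add_zero]
      · obtain ⟨a, ha, b, hb, p, hp, rfl⟩ := hdec w
        rw [add_assoc]
        exact add_mem (Submodule.mem_sup_left ha)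
          (Submodule.mem_sup_right (add_mem (Submodule.mem_sup_left hb) (Submodule.mem_sup_right hp)))
    obtain ⟨u, hu⟩ := FiniteField.norm_surjective F (AdjoinRoot g) d
    obtain ⟨B, hB1, hB2, hBd⟩ := exists_block φ hφi _ hc' u
    have hBX := hcommX φ hφ _ hT' hc' B u hB1 hB2
    refine conclude B hBX (hBd.trans hu) fun w => ?_
    set τB := adjM hF (LinearMap.toMatrix' B) with hτB
    have hBS₁ : ∀ a ∈ S₁, B a ∈ S₁ := by rintro _ ⟨z, rfl⟩; exact ⟨_, (hB1 z).symm⟩
    have hBdec : ∀ a ∈ S₁, ∀ b ∈ S₂, ∀ p ∈ perpS hF (S₁ ⊔ S₂), B (a + b + p) = B a + b + p := fun a _ b hb p hp => by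
      rw [map_add, map_add, hB2 b (Submodule.mem_sup_left hb), hB2 p (Submodule.mem_sup_right hp)]
    have hτS₁ : ∀ a ∈ S₁, τB *ᵥ a = a := fun a ha => sub_eq_zero.mp (eq_zero_of_orth hF fun w' => by
      obtain ⟨a', ha', b', hb', p', hp', rfl⟩ := hdec w'
      rw [(conj hF).sub_right, hadjB, hBdec a' ha' b' hb' p' hp']
      simp only [(conj hF).add_left, hi1 _ (hBS₁ a' ha') a ha, hi1 a' ha' a ha, sub_self])
    have hτp : ∀ p ∈ perpS hF (S₁ ⊔ S₂), τB *ᵥ p = p := fun p hp => sub_eq_zero.mp (eq_zero_of_orth hF fun w' => by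
      obtain ⟨a', ha', b', hb', p', hp', rfl⟩ := hdec w'
      rw [(conj hF).sub_right, hadjB, hBdec a' ha' b' hb' p' hp']
      simp only [(conj hF).add_left, (conj hF).flip_zero (hp _ (Submodule.mem_sup_left (hBS₁ a' ha'))),
        (conj hF).flip_zero (hp _ (Submodule.mem_sup_left ha')), sub_self])
    have hτS₂ : ∀ b ∈ S₂, τB *ᵥ b ∈ S₂ := fun b hb => by
      obtain ⟨a', ha', b', hb', p', hp', he⟩ := hdec (τB *ᵥ b)
      have ha0 : a' = 0 := hp1 a' ha' fun c hc => by
        have h1 : hh c (τB *ᵥ b) = 0 := by rw [hadjB, hB2 c (Submodule.mem_sup_left hc)]; exact hi2 c hc b hb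
        rw [he, (conj hF).add_right, (conj hF).add_right, hi2 c hc b' hb',
          (conj hF).flip_zero (hp' c (Submodule.mem_sup_right hc)), add_zero, add_zero] at h1
        exact (conj hF).flip_zero h1
      have hp0 : p' = 0 := eq_zero_of_orth hF fun w' => by
        obtain ⟨a₂, ha₂, b₂, hb₂, p₂, hp₂, rfl⟩ := hdec w'
        have h1 : hh p₂ (τB *ᵥ b) = 0 := by
          rw [hadjB, hB2 p₂ (Submodule.mem_sup_right hp₂)]; exact hp₂ b (Submodule.mem_sup_right hb)
        rw [he, (conj hF).add_right, (conj hF).add_right, hp₂ a' (Submodule.mem_sup_left ha'),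
          hp₂ b' (Submodule.mem_sup_right hb'), zero_add, zero_add] at h1
        rw [(conj hF).add_left, (conj hF).add_left, (conj hF).flip_zero (hp' a₂ (Submodule.mem_sup_left ha₂)),
          (conj hF).flip_zero (hp' b₂ (Submodule.mem_sup_right hb₂)), h1, add_zero, add_zero]
      rw [he, ha0, hp0, zero_add, add_zero]; exact hb'
    obtain ⟨a, ha, b, hb, p, hp, rfl⟩ := hdec w
    rw [mulVec_add, mulVec_add, hτS₁ a ha, hτp p hp, hBdec a ha _ (hτS₂ b hb) p hp, hBdec a ha b hb p hp,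
      mulVec_add, mulVec_add, hτS₁ _ (hBS₁ a ha), hτp p hp]

theorem exists_div_conj {δ : F} (h : δ * (conj hF).σ δ = 1) :
    ∃ d : F, d ≠ 0 ∧ d = δ * (conj hF).σ d := by
  by_cases hr : ∀ r : F, r + δ * (conj hF).σ r = 0
  · -- then `σ c = c` for all `c`
    exfalso
    have hδ : δ = -1 := by have := hr 1; rw [map_one, mul_one] at this; linear_combination this
    obtain ⟨r, hr'⟩ := exists_trace_one hF
    have h1 := hr r
    rw [hδ] at h1
    have hfix : (conj hF).σ r = r := by linear_combination -h1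
    by_cases h2 : (2 : F) = 0
    · rw [hfix] at hr'
      exact one_ne_zero (α := F) (by linear_combination -hr' + r * h2)
    · obtain ⟨c, hc⟩ : ∃ c, (conj hF).σ c ≠ c := by
        by_contra hall
        push Not at hall
        have hcard := CfsgLib.CharBound.SUn.card_fixed_units hF
        have hq := CfsgLib.ClassicalGroups.herm_two_le hF
        rw [Nat.card_congr (Equiv.subtypeEquivRight (q := fun r : F => r ≠ 0) fun r => by simp [hall r]),
          Nat.card_congr unitsEquivNeZero.symm, CfsgLib.ClassicalGroups.card_units_herm hF] at hcard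
        have : q + 1 = 1 := by
          refine Nat.eq_of_mul_eq_mul_left (show 0 < q - 1 by omega) ?_
          rw [mul_one]; exact hcard
        omega
      have h3 := hr c
      rw [hδ] at h3
      exact hc (by linear_combination -h3)
  · push Not at hr
    obtain ⟨r, hr⟩ := hr
    refine ⟨_, hr, ?_⟩
    rw [map_add, map_mul, (conj hF).hσ2, mul_add, ← mul_assoc, h, one_mul, add_comm]

/-- Semisimple elements of `SU_n(q)` with one characteristic polynomial are conjugate in it. -/
theorem SU_isConj_of_charpoly_eq (p : ℕ) [Fact p.Prime] [CharP F p] (g h : ↥(Cfsg.SU n F q))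
    (hg : (orderOf g).Coprime p) (hh' : (orderOf h).Coprime p)
    (hc : ((g : Matrix.SpecialLinearGroup (Fin n) F) : Matrix (Fin n) (Fin n) F).charpoly =
      ((h : Matrix.SpecialLinearGroup (Fin n) F) : Matrix (Fin n) (Fin n) F).charpoly) : IsConj g h := by
  classical
  rcases Nat.eq_zero_or_pos n with hn0 | hn
  · subst hn0
    rw [show g = h from Subtype.ext (Subsingleton.elim _ _)]
  let φ : ↥(Cfsg.SU n F q) →* Matrix (Fin n) (Fin n) F :=
    { toFun := fun a => a.1.1, map_one' := rfl, map_mul' := fun _ _ => rfl }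
  obtain ⟨N, hN, hgN, hhN⟩ := exists_common_exponent p φ g h hg hh'
  obtain ⟨c₀, hc₀⟩ := similar_of_charpoly_eq hN _ _ hgN hhN hc
  let G : Cfsg.GU n F q := ⟨g.1.toGL, CfsgLib.ClassicalGroups.mem_SU_iff_toGL.mp g.2⟩
  let H : Cfsg.GU n F q := ⟨h.1.toGL, CfsgLib.ClassicalGroups.mem_SU_iff_toGL.mp h.2⟩
  have hGH : IsConj (G : GL (Fin n) F) (H : GL (Fin n) F) := isConj_iff.mpr ⟨c₀, by
    rw [mul_inv_eq_iff_eq_mul]; exact Units.ext hc₀⟩
  obtain ⟨c, hc'⟩ := isConj_iff.mp (IsomConj.GU_isConj_of_similar hF G H hGH)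
  let Cm : Matrix (Fin n) (Fin n) F := ((c : GL (Fin n) F) : Matrix (Fin n) (Fin n) F)
  have hCm : adjM hF Cm * Cm = 1 := (mem_GU_adjM hF).mp c.2
  have hCX : Cm * φ g = φ h * Cm := by
    have h1 := congrArg (fun M : Cfsg.GU n F q => ((M : GL (Fin n) F) : Matrix (Fin n) (Fin n) F))
      (mul_inv_eq_iff_eq_mul.mp hc')
    exact h1
  have hnorm : Cm.det * (conj hF).σ Cm.det = 1 := by
    have h1 := congrArg Matrix.det hCm
    rwa [det_mul, det_adjM, det_one, mul_comm] at h1
  obtain ⟨d, hd0, hd⟩ := exists_div_conj hF (δ := (conj hF).σ Cm.det)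
    (by rw [(conj hF).hσ2, mul_comm, hnorm])
  have hX : adjM hF (φ g) * φ g = 1 := (mem_GU_adjM hF).mp G.2
  obtain ⟨B, hBX, hBn, hBd⟩ := exists_normal_commute_det hF hn (φ g) hX hN hgN hd0
  have hBu : IsUnit (adjM hF B).det := by
    rw [det_adjM, hBd, isUnit_iff_ne_zero]; exact (_root_.map_ne_zero _).mpr hd0
  let A : Matrix (Fin n) (Fin n) F := B * (adjM hF B)⁻¹
  have hτA : adjM hF A * A = 1 := by
    have h1 : adjM hF ((adjM hF B)⁻¹) * B = 1 := by
      have := congrArg (adjM hF) (Matrix.mul_nonsing_inv _ hBu)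
      rwa [adjM_mul, adjM_adjM, adjM_one] at this
    rw [adjM_mul, mul_assoc, ← mul_assoc (adjM hF B), ← hBn, mul_assoc B, Matrix.mul_nonsing_inv _ hBu, mul_one, h1]
  have hAX : A * φ g = φ g * A := by
    have hXX : φ g * adjM hF (φ g) = 1 := mul_eq_one_comm.mp hX
    have h1 : adjM hF B * φ g = φ g * adjM hF B := by
      have h2 := congrArg (adjM hF) hBX
      rw [adjM_mul, adjM_mul] at h2
      calc adjM hF B * φ g = φ g * (adjM hF (φ g) * adjM hF B) * φ g := by rw [← mul_assoc, hXX, one_mul]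
        _ = φ g * (adjM hF B * (adjM hF (φ g) * φ g)) := by rw [h2, mul_assoc, mul_assoc]
        _ = _ := by rw [hX, mul_one]
    have h3 : (adjM hF B)⁻¹ * φ g = φ g * (adjM hF B)⁻¹ := by
      calc (adjM hF B)⁻¹ * φ g = (adjM hF B)⁻¹ * (φ g * adjM hF B) * (adjM hF B)⁻¹ := by
            rw [mul_assoc, mul_assoc (φ g), Matrix.mul_nonsing_inv _ hBu, mul_one]
        _ = (adjM hF B)⁻¹ * (adjM hF B * φ g) * (adjM hF B)⁻¹ := by rw [h1]
        _ = _ := by rw [← mul_assoc, Matrix.nonsing_inv_mul _ hBu, one_mul]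
    rw [mul_assoc, h3, ← mul_assoc, hBX, mul_assoc]
  have hdetA : (Cm * A).det = 1 := by
    have hs : (conj hF).σ d ≠ 0 := (_root_.map_ne_zero _).mpr hd0
    rw [det_mul, det_mul, Matrix.det_nonsing_inv, det_adjM, hBd, Ring.inverse_eq_inv']
    rw [show d * ((conj hF).σ d)⁻¹ = (conj hF).σ Cm.det * (conj hF).σ d * ((conj hF).σ d)⁻¹ from by rw [← hd],
      mul_assoc ((conj hF).σ Cm.det), mul_inv_cancel₀ hs, mul_one]
    exact hnorm
  let PP : GL (Fin n) F := Matrix.GeneralLinearGroup.mkOfDetNeZero (Cm * A) (by rw [hdetA]; exact one_ne_zero)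
  have hP : PP ∈ Cfsg.GU n F q := by
    rw [mem_GU_adjM hF]
    show adjM hF (Cm * A) * (Cm * A) = 1
    rw [adjM_mul, mul_assoc, ← mul_assoc (adjM hF Cm), hCm, one_mul, hτA]
  let P : ↥(Cfsg.SU n F q) := ⟨⟨Cm * A, hdetA⟩, CfsgLib.ClassicalGroups.mem_SU_iff_toGL.mpr (by
    have : Matrix.SpecialLinearGroup.toGL (⟨Cm * A, hdetA⟩ : Matrix.SpecialLinearGroup (Fin n) F) = PP := Units.ext rfl
    rw [this]; exact hP)⟩
  refine isConj_iff.mpr ⟨P, ?_⟩
  rw [mul_inv_eq_iff_eq_mul]
  refine Subtype.ext (Subtype.ext ?_)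
  show Cm * A * φ g = φ h * (Cm * A)
  rw [mul_assoc, hAX, ← mul_assoc, hCX, mul_assoc]

end CfsgLib.SemisimpleClass
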