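import Cfsg.Agent.Lib.SemisimpleClass.UnitaryCount

set_option autoImplicit false

/-! The element orders of `PSU_3(q)`, `q` odd. -/

namespace CfsgLib.PSU3Spectrum

open Polynomial Matrix CfsgLib.SemisimpleClass CfsgLib.CharBound.SUn

section Scalar

variable {K : Type*} [Field K] {A : Matrix (Fin 3) (Fin 3) K}

theorem pow_eq_scalar_of_distinct {a b c : K} (hA : A.charpoly = (X - C a) * (X - C b) * (X - C c))
    (hab : a ≠ b) (hac : a ≠ c) (hbc : b ≠ c) {N : ℕ} {k : K} (hN : N ≠ 0) (ha : a ^ N = k) (hb : b ^ N = k)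
    (hc : c ^ N = k) : A ^ N = algebraMap K _ k := by
  classical
  have hne : (X ^ N - C k : K[X]) ≠ 0 := X_pow_sub_C_ne_zero (Nat.pos_of_ne_zero hN) k
  have hdvd : A.charpoly ∣ X ^ N - C k := by
    have h : (({a, b, c} : Multiset K).map fun x => X - C x).prod ∣ X ^ N - C k := by
      rw [Multiset.prod_X_sub_C_dvd_iff_le_roots hne, Multiset.le_iff_subset (by simp [hab, hac, hbc])]
      intro x hx
      rw [mem_roots hne]
      simp only [Multiset.insert_eq_cons, Multiset.mem_cons, Multiset.mem_singleton] at hx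
      rcases hx with rfl | rfl | rfl <;> simp [ha, hb, hc]
    rw [hA]
    simpa [mul_assoc] using h
  obtain ⟨Q, hQ⟩ := hdvd
  have h := congrArg (Polynomial.aeval A) hQ
  rw [map_mul, Matrix.aeval_self_charpoly, zero_mul, map_sub, map_pow, aeval_X, aeval_C, sub_eq_zero] at h
  exact h

theorem pow_eq_scalar_of_repeated (p : ℕ) [Fact p.Prime] [CharP K p] (hp : 3 ≤ p) {a b : K}
    (hA : A.charpoly = (X - C a) * (X - C a) * (X - C b)) {N : ℕ} {k : K} (ha : a ^ N = k) (hb : b ^ N = k) :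
    A ^ (N * p) = algebraMap K _ (k ^ p) := by
  haveI : CharP (Matrix (Fin 3) (Fin 3) K) p := charP_of_injective_algebraMap' K p
  have h1 : ∀ x : K, x ^ N = k → X - C x ∣ X ^ N - C k := fun x hx => by
    rw [dvd_iff_isRoot]; simp [hx]
  have hdvd : A.charpoly ∣ (X ^ N - C k) ^ p := by
    rw [hA]
    refine dvd_trans ?_ (pow_dvd_pow _ hp)
    rw [pow_three', ]
    exact mul_dvd_mul (mul_dvd_mul (h1 a ha) (h1 a ha)) (h1 b hb)
  obtain ⟨Q, hQ⟩ := hdvd
  have h := congrArg (Polynomial.aeval A) hQ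
  rw [map_mul, Matrix.aeval_self_charpoly, zero_mul, map_pow, map_sub, map_pow, aeval_X, aeval_C,
    sub_pow_char_of_commute p (Algebra.commute_algebraMap_right _ _), sub_eq_zero, ← pow_mul, ← map_pow] at h
  exact h

theorem root_pow_eq {x : K} (hx : A.charpoly.IsRoot x) {N : ℕ} {k : K} (h : A ^ N = algebraMap K _ k) :
    x ^ N = k := by
  rw [← Matrix.mem_spectrum_iff_isRoot_charpoly] at hx
  have h1 := spectrum.pow_mem_pow A N hx
  rw [h, spectrum.scalar_eq, Set.mem_singleton_iff] at h1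
  exact h1

end Scalar

section Unitary

variable {F : Type*} [Field F] [Fintype F] {q : ℕ} (hF : Fintype.card F = q ^ 2)
include hF

local notation "KK" => AlgebraicClosure F

theorem exists_exp (p : ℕ) [Fact p.Prime] [CharP F p] : ∃ e, 1 ≤ e ∧ q = p ^ e := by
  obtain ⟨f, hp, hf⟩ := FiniteField.card F p
  obtain ⟨e, -, he⟩ := (Nat.dvd_prime_pow hp).1 (show q ∣ p ^ (f : ℕ) from hf ▸ hF ▸ dvd_pow_self q two_ne_zero)
  refine ⟨e, Nat.one_le_iff_ne_zero.2 fun h => ?_, he⟩
  subst h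
  rw [he, pow_zero, one_pow] at hF
  exact absurd hF Fintype.one_lt_card.ne'

theorem mem_range_of_pow_eq {x : AlgebraicClosure F} (h : x ^ (q ^ 2) = x) :
    ∃ y : F, algebraMap F (AlgebraicClosure F) y = x := by
  classical
  have hne : (X ^ (q ^ 2) - X : (KK)[X]) ≠ 0 :=
    FiniteField.X_pow_card_sub_X_ne_zero _ (by rw [← hF]; exact Fintype.one_lt_card)
  have hsub : Finset.univ.image (algebraMap F KK) ⊆ (X ^ (q ^ 2) - X : (KK)[X]).roots.toFinset := by
    intro y hy
    obtain ⟨y, -, rfl⟩ := Finset.mem_image.1 hy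
    rw [Multiset.mem_toFinset, mem_roots hne]
    simp [← map_pow, ← hF, FiniteField.pow_card]
  have hcard : (X ^ (q ^ 2) - X : (KK)[X]).roots.toFinset.card ≤ (Finset.univ.image (algebraMap F KK)).card := by
    rw [Finset.card_image_of_injective _ (algebraMap F KK).injective, Finset.card_univ, hF]
    refine (Multiset.toFinset_card_le _).trans ((card_roots' _).trans ?_)
    rw [FiniteField.X_pow_card_sub_X_natDegree_eq _ (by rw [← hF]; exact Fintype.one_lt_card)]
  have hx : x ∈ (X ^ (q ^ 2) - X : (KK)[X]).roots.toFinset := by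
    rw [Multiset.mem_toFinset, mem_roots hne]; simp [h]
  rw [← Finset.eq_of_subset_of_card_le hsub hcard] at hx
  obtain ⟨y, -, hy⟩ := Finset.mem_image.1 hx
  exact ⟨y, hy⟩

/-- The roots of a conjugate-reciprocal polynomial are closed under `x ↦ x⁻q`. -/
theorem root_tau (p : ℕ) [Fact p.Prime] [CharP F p] {n : ℕ} {f : F[X]} (hf : IsURec hF n f)
    {x : AlgebraicClosure F} (hx0 : x ≠ 0) (hx : (f.map (algebraMap F (AlgebraicClosure F))).IsRoot x) :
    (f.map (algebraMap F (AlgebraicClosure F))).IsRoot (x ^ q)⁻¹ := by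
  obtain ⟨hfm, hfn, hfc⟩ := hf
  obtain ⟨e, -, hqe⟩ := exists_exp hF p
  haveI : CharP KK p := charP_of_injective_algebraMap' F p
  let σ := (conj hF).σ
  let i := algebraMap F KK
  have hmap : f.map σ = C ((-1 : F) ^ n) * f.reverse := by
    ext j
    rw [coeff_map, coeff_C_mul, coeff_reverse, hfn]
    by_cases hj : j ≤ n
    · rw [revAt_le hj]; exact hfc j hj
    · rw [revAt_eq_self_of_lt (by omega), coeff_eq_zero_of_natDegree_lt (by omega), map_zero, mul_zero]
  let φ : KK →+* KK := iterateFrobenius KK p e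
  have hφ : ∀ y, φ y = y ^ q := fun y => by rw [hqe]; rfl
  have hcomp : φ.comp i = i.comp σ := RingHom.ext fun y => by
    rw [RingHom.comp_apply, RingHom.comp_apply, hφ, ← map_pow]
    exact congrArg i ((conj hF).hσ y).symm
  have hx' : eval₂ i x f = 0 := by rwa [IsRoot, eval_map] at hx
  have h1 : eval₂ i (x ^ q) (f.map σ) = 0 := by
    rw [eval₂_map, ← hcomp, ← hφ, ← hom_eval₂, hx', map_zero]
  rw [hmap, eval₂_mul, eval₂_C, mul_eq_zero] at h1
  have h2 := h1.resolve_left ((map_ne_zero_iff _ i.injective).2 (pow_ne_zero _ (neg_ne_zero.2 one_ne_zero)))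
  letI : Invertible (x ^ q)⁻¹ := invertibleOfNonzero (inv_ne_zero (pow_ne_zero q hx0))
  have h3 := (eval₂_reverse_eq_zero_iff i (x ^ q)⁻¹ f).1 (by rwa [invOf_eq_inv, inv_inv])
  rwa [IsRoot, eval_map]

set_option maxHeartbeats 1000000 in
/-- The exponents occurring for one element. -/
theorem exists_scalar_power (p : ℕ) [Fact p.Prime] [CharP F p] (hp : p ≠ 2) (M : Matrix (Fin 3) (Fin 3) F) (hM : adjM hF M * M = 1)
    (hdet : M.det = 1) :
    ∃ N, (N = q + 1 ∨ N = p * (q + 1) / Nat.gcd 3 (q + 1) ∨ N = (q ^ 2 - 1) / Nat.gcd 3 (q + 1) ∨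
      N = (q ^ 2 - q + 1) / Nat.gcd 3 (q + 1)) ∧ ∃ k : F, M ^ N = algebraMap F _ k := by
  classical
  have hp3 : 3 ≤ p := lt_of_le_of_ne (Fact.out : p.Prime).two_le (Ne.symm hp)
  obtain ⟨e, he, hqe⟩ := exists_exp hF p
  have hq3 : 3 ≤ q := hqe ▸ hp3.trans (Nat.le_self_pow (by omega) p)
  haveI : CharP KK p := charP_of_injective_algebraMap' F p
  let i := algebraMap F KK
  let A := M.map i
  have hrec := isURec_charpoly hF M hM hdet
  set d := Nat.gcd 3 (q + 1) with hd
  obtain ⟨u, hu⟩ : d ∣ q + 1 := Nat.gcd_dvd_right _ _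
  have hd3 : d ∣ 3 := Nat.gcd_dvd_left _ _
  have hd0 : 0 < d := Nat.gcd_pos_of_pos_left _ (by norm_num)
  -- descend a scalar
  have hdesc : ∀ N (k : KK), A ^ N = algebraMap KK _ k → ∃ k' : F, M ^ N = algebraMap F _ k' := by
    intro N k h
    refine ⟨(M ^ N) 0 0, ?_⟩
    have h' : ∀ r s, i ((M ^ N) r s) = if r = s then k else 0 := fun r s => by
      have := congrFun (congrFun h r) s
      rw [show A ^ N = (M ^ N).map i from (map_pow i.mapMatrix M N).symm, Matrix.map_apply,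
        Matrix.algebraMap_matrix_apply] at this
      exact this
    ext r s
    rw [Matrix.algebraMap_matrix_apply]
    rcases eq_or_ne r s with rfl | hrs
    · rw [if_pos rfl]; exact i.injective (by simp [h'])
    · rw [if_neg hrs]; exact i.injective (by simp [h', hrs])
  have hch : A.charpoly = M.charpoly.map i := Matrix.charpoly_map M i
  have hAm : A.charpoly.Monic := Matrix.charpoly_monic A
  have hcard : Multiset.card A.charpoly.roots = 3 := by
    rw [splits_iff_card_roots.1 (IsAlgClosed.splits A.charpoly), Matrix.charpoly_natDegree_eq_dim, Fintype.card_fin]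
  obtain ⟨a, b, c, habc⟩ := Multiset.card_eq_three.1 hcard
  have hprod : A.charpoly = (X - C a) * (X - C b) * (X - C c) := by
    rw [← prod_multiset_X_sub_C_of_monic_of_roots_card_eq hAm (by
      rw [hcard, Matrix.charpoly_natDegree_eq_dim, Fintype.card_fin]), habc]
    simp [mul_assoc]
  have hone : a * b * c = 1 := by
    have h := Matrix.det_eq_prod_roots_charpoly A
    rw [habc, show A.det = 1 by rw [show A = i.mapMatrix M from rfl, ← RingHom.map_det, hdet, map_one]] at h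
    simpa [mul_assoc] using h.symm
  have hne : ∀ x ∈ A.charpoly.roots, x ≠ 0 := by
    intro x hx h0
    rw [habc] at hx
    simp only [Multiset.insert_eq_cons, Multiset.mem_cons, Multiset.mem_singleton] at hx
    rcases hx with rfl | rfl | rfl <;> simp [h0] at hone
  let τ : KK → KK := fun x => (x ^ q)⁻¹
  have hmem : ∀ x ∈ A.charpoly.roots, τ x ∈ A.charpoly.roots := fun x hx => by
    have h0 := hne x hx
    rw [mem_roots hAm.ne_zero] at hx ⊢
    rw [hch] at hx ⊢
    exact root_tau hF p hrec h0 hx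
  have hτinj : Function.Injective τ := fun x y h => by
    have h' : x ^ q = y ^ q := inv_injective h
    rw [hqe] at h'
    exact iterateFrobenius_inj KK p e h'
  have hτmul : ∀ x y, τ (x * y) = τ x * τ y := fun x y => by simp [τ, mul_pow, mul_comm]
  have hfix : ∀ x, x ≠ 0 → τ x = x → x ^ (q + 1) = 1 := fun x h0 h => by
    rw [pow_succ]; nth_rw 2 [← h]; exact mul_inv_cancel₀ (pow_ne_zero q h0)
  have hk3 : ∀ k : KK, k ^ d = 1 → k ^ 3 = 1 ∧ k ^ (q + 1) = 1 := fun k hk => by
    obtain ⟨v, hv⟩ := hd3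
    exact ⟨by rw [hv, pow_mul, hk, one_pow], by rw [hu, pow_mul, hk, one_pow]⟩
  have hka : ∀ k : KK, k ^ (q + 1) = 1 → τ k = k := fun k hk => by
    refine inv_eq_of_mul_eq_one_right ?_
    rw [← pow_succ]; exact hk
  rw [habc] at hmem hne
  simp only [Multiset.insert_eq_cons, Multiset.mem_cons, Multiset.mem_singleton, forall_eq_or_imp, forall_eq] at hmem hne
  -- repeated roots
  have hrep : ∀ x y : KK, A.charpoly = (X - C x) * (X - C x) * (X - C y) → x * x * y = 1 → x ≠ 0 →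
      (τ x = x ∨ τ x = y) → (τ y = x ∨ τ y = y) → ∃ k : F, M ^ (p * (q + 1) / d) = algebraMap F _ k := by
    intro x y hA hxy hx0 hx hy
    have hxfix : τ x = x := by
      rcases hx with h | h
      · exact h
      by_contra hne'
      have hyx : τ y = x := hy.resolve_right fun h' => hne' (h.trans (hτinj (h.trans h'.symm)).symm)
      have h2 : τ (x * x * y) = τ 1 := by rw [hxy]
      rw [hτmul, hτmul, h, hyx, show τ 1 = 1 by simp [τ]] at h2
      refine hne' (h.trans ?_)
      have hy0 : y ≠ 0 := fun h0 => by simp [h0] at hxy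
      exact mul_left_cancel₀ (mul_ne_zero hx0 hy0) (by linear_combination h2 - hxy)
    have hxq := hfix x hx0 hxfix
    have hk := hk3 (x ^ u) (by rw [← pow_mul, mul_comm, ← hu, hxq])
    have hyu : y ^ u = x ^ u := by
      have h : x ^ u * x ^ u * y ^ u = 1 := by rw [← mul_pow, ← mul_pow, hxy, one_pow]
      exact mul_left_cancel₀ (mul_ne_zero (pow_ne_zero u hx0) (pow_ne_zero u hx0))
        (by linear_combination h - hk.1)
    rw [show p * (q + 1) / d = u * p by rw [hu, mul_left_comm, Nat.mul_div_cancel_left _ hd0, mul_comm]]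
    exact hdesc _ _ (pow_eq_scalar_of_repeated p hp3 hA rfl hyu)
  by_cases hab : a = b
  · subst hab
    exact ⟨_, Or.inr (Or.inl rfl), hrep a c hprod hone hne.1
      (by rcases hmem.1 with h | h | h <;> simp [h])
      (by rcases hmem.2.2 with h | h | h <;> simp [h])⟩
  by_cases hac : a = c
  · subst hac
    exact ⟨_, Or.inr (Or.inl rfl), hrep a b (by rw [hprod]; ring) (by rw [← hone]; ring) hne.1
      (by rcases hmem.1 with h | h | h <;> simp [h])
      (by rcases hmem.2.1 with h | h | h <;> simp [h])⟩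
  by_cases hbc : b = c
  · subst hbc
    exact ⟨_, Or.inr (Or.inl rfl), hrep b a (by rw [hprod]; ring) (by rw [← hone]; ring) hne.2.1
      (by rcases hmem.2.1 with h | h | h <;> simp [h])
      (by rcases hmem.1 with h | h | h <;> simp [h])⟩
  -- distinct roots
  by_cases hall : τ a = a ∧ τ b = b ∧ τ c = c
  · exact ⟨_, Or.inl rfl, hdesc _ _ (pow_eq_scalar_of_distinct hprod hab hac hbc (k := 1) (by omega)
      (hfix a hne.1 hall.1) (hfix b hne.2.1 hall.2.1) (hfix c hne.2.2 hall.2.2))⟩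
  -- `x ↦ y` moved
  have hswap : ∀ x y z : KK, A.charpoly = (X - C x) * (X - C y) * (X - C z) → x * y * z = 1 → x ≠ y → x ≠ z → y ≠ z →
      x ≠ 0 → y ≠ 0 → τ x = y → (τ y = x ∨ τ y = y ∨ τ y = z) → (τ z = x ∨ τ z = y ∨ τ z = z) →
      ∃ N, (N = q + 1 ∨ N = p * (q + 1) / d ∨ N = (q ^ 2 - 1) / d ∨ N = (q ^ 2 - q + 1) / d) ∧
        ∃ k : F, M ^ N = algebraMap F _ k := by
    intro x y z hA hxyz hxy hxz hyz hx0 hy0 hτx hτy hτz
    have hyy : τ y ≠ y := fun h => hxy (hτinj (hτx.trans h.symm))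
    rcases hτy with hτy | hτy | hτy
    · -- a transposition
      have hx2 : x ^ (q ^ 2 - 1) = 1 := by
        have h1 : x ^ (q ^ 2) = x := by
          have := hτy; rw [← hτx] at this
          simp only [τ, inv_pow, inv_inv, ← pow_mul] at this
          rw [pow_two]; exact this
        refine mul_right_cancel₀ hx0 ?_
        rw [one_mul, ← pow_succ, Nat.sub_add_cancel (Nat.one_le_pow _ _ (by omega))]
        exact h1
      obtain ⟨v, hv⟩ : d ∣ q ^ 2 - 1 := by
        rw [← one_pow 2, Nat.sq_sub_sq]; exact Dvd.dvd.mul_right ⟨u, hu⟩ _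
      have hk := hk3 (x ^ v) (by rw [← pow_mul, mul_comm, ← hv, hx2])
      have hyv : y ^ v = x ^ v := by
        rw [← hτx]
        simp only [τ, inv_pow, ← pow_mul]
        rw [mul_comm, pow_mul]
        exact hka _ hk.2
      have hzv : z ^ v = x ^ v := by
        have h : x ^ v * y ^ v * z ^ v = 1 := by rw [← mul_pow, ← mul_pow, hxyz, one_pow]
        rw [hyv] at h
        exact mul_left_cancel₀ (mul_ne_zero (pow_ne_zero v hx0) (pow_ne_zero v hx0))
          (by linear_combination h - hk.1)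
      refine ⟨_, Or.inr (Or.inr (Or.inl rfl)), hdesc _ (x ^ v) ?_⟩
      rw [show (q ^ 2 - 1) / d = v by rw [hv, Nat.mul_div_cancel_left _ hd0]]
      refine pow_eq_scalar_of_distinct hA hxy hxz hyz ?_ rfl hyv hzv
      intro h0
      have : 1 < q ^ 2 := Nat.one_lt_pow two_ne_zero (by omega)
      simp [h0] at hv; omega
    · exact absurd hτy hyy
    · -- a three-cycle
      have hτz' : τ z = x := by
        rcases hτz with h | h | h
        · exact h
        · exact absurd (hτinj (hτx.trans h.symm)) hxz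
        · exact absurd (hτinj (hτy.trans h.symm)) hyz
      obtain ⟨hQ, v, hv⟩ : (q ^ 2 - q + 1) + q = q ^ 2 + 1 ∧ d ∣ q ^ 2 - q + 1 := by
        have hle : q ≤ q ^ 2 := Nat.le_self_pow two_ne_zero q
        refine ⟨by omega, ?_⟩
        rw [show q ^ 2 - q + 1 = (q + 1) * (q - 2) + 3 by
          zify [hle, (show 2 ≤ q by omega)]; ring]
        exact Nat.dvd_add (Dvd.dvd.mul_right ⟨u, hu⟩ _) hd3
      have hxQ : x ^ (q ^ 2 - q + 1) = 1 := by
        have hz' : z = x ^ (q ^ 2) := by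
          rw [← hτy, ← hτx]; simp only [τ, inv_pow, inv_inv, ← pow_mul, pow_two]
        have hxyz' := hxyz
        rw [hz', ← hτx] at hxyz'
        simp only [τ] at hxyz'
        refine mul_right_cancel₀ (pow_ne_zero q hx0) ?_
        rw [one_mul, ← pow_add, hQ, pow_succ]
        field_simp at hxyz'
        linear_combination hxyz'
      have hk := hk3 (x ^ v) (by rw [← pow_mul, mul_comm, ← hv, hxQ])
      have hτv : ∀ w : KK, (τ w) ^ v = τ (w ^ v) := fun w => by
        simp only [τ, inv_pow, ← pow_mul, mul_comm]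
      have hyv : y ^ v = x ^ v := by rw [← hτx, hτv, hka _ hk.2]
      have hzv : z ^ v = x ^ v := by rw [← hτy, hτv, hyv, hka _ hk.2]
      refine ⟨_, Or.inr (Or.inr (Or.inr rfl)), hdesc _ (x ^ v) ?_⟩
      rw [show (q ^ 2 - q + 1) / d = v by rw [hv, Nat.mul_div_cancel_left _ hd0]]
      refine pow_eq_scalar_of_distinct hA hxy hxz hyz ?_ rfl hyv hzv
      intro h0
      simp [h0] at hv
  have hone' : ∀ {r s t : KK}, r * s * t = a * b * c → r * s * t = 1 := fun h => h.trans hone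
  rcases hmem.1 with h | h | h
  · rcases hmem.2.1 with h' | h' | h'
    · exact absurd (hτinj (h.trans h'.symm)) hab
    · refine absurd ⟨h, h', ?_⟩ hall
      rcases hmem.2.2 with h'' | h'' | h''
      · exact absurd (hτinj (h.trans h''.symm)) hac
      · exact absurd (hτinj (h'.trans h''.symm)) hbc
      · exact h''
    · exact hswap b c a (by rw [hprod]; ring) (hone' (by ring)) hbc (Ne.symm hab) (Ne.symm hac) hne.2.1 hne.2.2 h'
        (by rcases hmem.2.2 with h | h | h <;> simp [h])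
        (by rcases hmem.1 with h | h | h <;> simp [h])
  · exact hswap a b c hprod hone hab hac hbc hne.1 hne.2.1 h
      (by rcases hmem.2.1 with h | h | h <;> simp [h])
      (by rcases hmem.2.2 with h | h | h <;> simp [h])
  · exact hswap a c b (by rw [hprod]; ring) (hone' (by ring)) hac hab (Ne.symm hbc) hne.1 hne.2.2 h
      (by rcases hmem.2.2 with h | h | h <;> simp [h])
      (by rcases hmem.2.1 with h | h | h <;> simp [h])

/-- An element with three prescribed roots. -/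
theorem exists_elem (p : ℕ) [Fact p.Prime] [CharP F p] {a b c : AlgebraicClosure F} (habc : a * b * c = 1)
    (h1 : a ^ q + b ^ q + c ^ q = a⁻¹ + b⁻¹ + c⁻¹) (h2 : (a⁻¹ + b⁻¹ + c⁻¹) ^ q = a + b + c) :
    ∃ g : ↥(Cfsg.SU 3 F q), ((g.1.1).map (algebraMap F (AlgebraicClosure F))).charpoly =
      (X - C a) * (X - C b) * (X - C c) ∧ ∀ P : F[X], Polynomial.aeval g.1.1 P = 0 →
        (X - C a) * (X - C b) * (X - C c) ∣ P.map (algebraMap F (AlgebraicClosure F)) := by
  obtain ⟨e, he, hqe⟩ := exists_exp hF p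
  haveI : CharP KK p := charP_of_injective_algebraMap' F p
  let i := algebraMap F KK
  have hinv : a⁻¹ = b * c ∧ b⁻¹ = c * a ∧ c⁻¹ = a * b :=
    ⟨inv_eq_of_mul_eq_one_right (by linear_combination habc), inv_eq_of_mul_eq_one_right (by linear_combination habc),
      inv_eq_of_mul_eq_one_right (by linear_combination habc)⟩
  rw [hinv.1, hinv.2.1, hinv.2.2] at h1 h2
  have hadd : (a + b + c) ^ q = b * c + c * a + a * b := by
    rw [hqe, add_pow_char_pow, add_pow_char_pow, ← hqe, h1]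
  obtain ⟨E, hE⟩ := mem_range_of_pow_eq hF (x := a + b + c) (by rw [pow_two, pow_mul, hadd, h2])
  let f : F[X] := X ^ 3 - C E * X ^ 2 + C (E ^ q) * X - 1
  have hmap : f.map i = (X - C a) * (X - C b) * (X - C c) := by
    simp only [f, Polynomial.map_sub, Polynomial.map_add, Polynomial.map_mul, Polynomial.map_pow, Polynomial.map_X,
      Polynomial.map_C, Polynomial.map_one, map_pow]
    rw [show i E = a + b + c from hE, ← map_pow, hadd]
    have : (1 : (KK)[X]) = C a * C b * C c := by rw [← C_mul, ← C_mul, habc, C_1]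
    rw [this]
    simp only [map_add, map_mul]
    ring
  have hm : ((f.map i)).Monic ∧ (f.map i).natDegree = 3 := by
    rw [hmap]
    have h := ((monic_X_sub_C a).mul (monic_X_sub_C b))
    exact ⟨h.mul (monic_X_sub_C c), by
      rw [Monic.natDegree_mul h (monic_X_sub_C c), Monic.natDegree_mul (monic_X_sub_C a) (monic_X_sub_C b)]; simp⟩
  have hco : f.coeff 0 = -1 ∧ f.coeff 1 = E ^ q ∧ f.coeff 2 = -E ∧ f.coeff 3 = 1 := by
    simp only [f, coeff_sub, coeff_add, coeff_X_pow, coeff_C_mul, coeff_X, coeff_one]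
    norm_num
  have hrec : IsURec hF 3 f := by
    refine ⟨?_, by rw [← hm.2, natDegree_map_eq_of_injective i.injective], fun j hj => ?_⟩
    · exact Function.Injective.monic_map_iff i.injective |>.2 hm.1
    · have hEq : (conj hF).σ E = E ^ q := (conj hF).hσ E
      have hEq2 : (conj hF).σ (E ^ q) = E := by rw [← hEq, (conj hF).hσ2]
      interval_cases j <;> norm_num [hco.1, hco.2.1, hco.2.2.1, hco.2.2.2, hEq, hEq2]
  obtain ⟨M, hM, hdet, hch, hmin⟩ := exists_cyclic_elem_of_isURec hF hrec (by norm_num)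
  let g₀ : Matrix.SpecialLinearGroup (Fin 3) F := ⟨M, hdet⟩
  have hmem : g₀ ∈ Cfsg.SU 3 F q := by
    rw [CfsgLib.ClassicalGroups.mem_SU_iff_toGL, mem_GU_adjM hF]
    exact hM
  refine ⟨⟨_, hmem⟩, by rw [show (M.map i).charpoly = _ from Matrix.charpoly_map M i, hch]; exact hmap,
    fun P hP => hmap ▸ Polynomial.map_dvd i (hmin P hP)⟩

theorem mk_eq_one_iff (g : ↥(Cfsg.SU 3 F q)) :
    (QuotientGroup.mk g : Cfsg.PSU 3 F q) = 1 ↔ ∃ k : F, g.1.1 = algebraMap F (Matrix (Fin 3) (Fin 3) F) k := by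
  rw [QuotientGroup.eq_one_iff]
  constructor
  · intro h
    have hs := CfsgLib.ClassicalGroups.center_SU_scalar hF (⟨g, h⟩ : Subgroup.center (Cfsg.SU 3 F q))
    refine ⟨g.1.1 0 0, ?_⟩
    ext r s
    rw [Matrix.algebraMap_matrix_apply]
    rcases eq_or_ne r s with rfl | hrs
    · rw [if_pos rfl]; exact (hs r 0).2
    · rw [if_neg hrs]; exact (hs r s).1 hrs
  · rintro ⟨k, hk⟩
    rw [Subgroup.mem_center_iff]
    intro h
    refine Subtype.ext (Subtype.ext ?_)
    show h.1.1 * g.1.1 = g.1.1 * h.1.1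
    rw [hk]
    exact (Algebra.commutes k h.1.1).symm

theorem pow_mk_eq_one_iff (g : ↥(Cfsg.SU 3 F q)) (N : ℕ) :
    (QuotientGroup.mk g : Cfsg.PSU 3 F q) ^ N = 1 ↔ ∃ k : F, g.1.1 ^ N = algebraMap F (Matrix (Fin 3) (Fin 3) F) k := by
  rw [← QuotientGroup.mk_pow, mk_eq_one_iff hF]
  simp [SubmonoidClass.coe_pow, Matrix.SpecialLinearGroup.coe_pow]

omit [Fintype F] hF in
theorem scalar_roots {a b c : AlgebraicClosure F} {g : ↥(Cfsg.SU 3 F q)} {N : ℕ} {k : F}
    (hg : ((g.1.1).map (algebraMap F (AlgebraicClosure F))).charpoly = (X - C a) * (X - C b) * (X - C c))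
    (h : g.1.1 ^ N = algebraMap F _ k) :
    a ^ N = algebraMap F _ k ∧ b ^ N = algebraMap F _ k ∧ c ^ N = algebraMap F _ k := by
  let i := algebraMap F KK
  have h' : (g.1.1.map i) ^ N = algebraMap KK _ (i k) := by
    rw [show (g.1.1.map i) ^ N = (g.1.1 ^ N).map i from (map_pow i.mapMatrix _ N).symm, h]
    ext r s
    rw [Matrix.map_apply, Matrix.algebraMap_matrix_apply, Matrix.algebraMap_matrix_apply]
    split_ifs <;> simp [i]
  exact ⟨root_pow_eq (by rw [hg]; simp) h', root_pow_eq (by rw [hg]; simp) h', root_pow_eq (by rw [hg]; simp) h'⟩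

set_option maxHeartbeats 1000000 in
theorem spectrum_eq (p : ℕ) [Fact p.Prime] [CharP F p] (hp : p ≠ 2) :
    Set.range (orderOf : Cfsg.PSU 3 F q → ℕ) =
      {s : ℕ | s ∣ q + 1} ∪ {s : ℕ | s ∣ p * (q + 1) / Nat.gcd 3 (q + 1)} ∪
        {s : ℕ | s ∣ (q ^ 2 - 1) / Nat.gcd 3 (q + 1)} ∪ {s : ℕ | s ∣ (q ^ 2 - q + 1) / Nat.gcd 3 (q + 1)} := by
  classical
  have hpp : p.Prime := Fact.out
  have hp3 : 3 ≤ p := lt_of_le_of_ne hpp.two_le (Ne.symm hp)
  obtain ⟨e, he, hqe⟩ := exists_exp hF p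
  have hq3 : 3 ≤ q := hqe ▸ hp3.trans (Nat.le_self_pow (by omega) p)
  haveI : CharP KK p := charP_of_injective_algebraMap' F p
  let i := algebraMap F KK
  set d := Nat.gcd 3 (q + 1) with hd
  obtain ⟨u, hu⟩ : d ∣ q + 1 := Nat.gcd_dvd_right _ _
  have hd3 : d ∣ 3 := Nat.gcd_dvd_left _ _
  have hd0 : 0 < d := Nat.gcd_pos_of_pos_left _ (by norm_num)
  have hu0 : 0 < u := Nat.pos_of_ne_zero fun h => by simp [h] at hu
  have hq2 : q ≤ q ^ 2 := Nat.le_self_pow two_ne_zero q
  have hsd : d ∣ q ^ 2 - 1 := by rw [← one_pow 2, Nat.sq_sub_sq]; exact Dvd.dvd.mul_right ⟨u, hu⟩ _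
  have hQd : d ∣ q ^ 2 - q + 1 := by
    rw [show q ^ 2 - q + 1 = (q + 1) * (q - 2) + 3 by zify [hq2, (show 2 ≤ q by omega)]; ring]
    exact Nat.dvd_add (Dvd.dvd.mul_right ⟨u, hu⟩ _) hd3
  have hpq : p ∣ q := hqe ▸ dvd_pow_self p (by omega)
  have hpe : p * (q + 1) / d = u * p := by rw [hu, mul_left_comm, Nat.mul_div_cancel_left _ hd0, mul_comm]
  ext s
  constructor
  · rintro ⟨x, rfl⟩
    obtain ⟨g, rfl⟩ := QuotientGroup.mk_surjective x
    obtain ⟨N, hN, k, hk⟩ := exists_scalar_power hF p hp g.1.1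
      ((mem_GU_adjM hF).mp (CfsgLib.ClassicalGroups.mem_SU_iff_toGL.mp g.2)) g.1.2
    have h := orderOf_dvd_of_pow_eq_one ((pow_mk_eq_one_iff hF g N).2 ⟨k, hk⟩)
    rcases hN with rfl | rfl | rfl | rfl
    · exact Or.inl (Or.inl (Or.inl h))
    · exact Or.inl (Or.inl (Or.inr h))
    · exact Or.inl (Or.inr h)
    · exact Or.inr h
  intro hs
  suffices H : ∃ x : Cfsg.PSU 3 F q, s ∣ orderOf x by
    obtain ⟨x, hx⟩ := H
    exact ⟨x ^ (orderOf x / s), orderOf_pow_orderOf_div (orderOf_pos x).ne' hx⟩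
  -- a scalar power bounds the exponent from below
  have low : ∀ (g : ↥(Cfsg.SU 3 F q)) (T : ℕ),
      (∀ m : ℕ, (∃ k : F, g.1.1 ^ m = algebraMap F _ k) → T ∣ m) → T ∣ orderOf (QuotientGroup.mk g : Cfsg.PSU 3 F q) :=
    fun g T h => h _ ((pow_mk_eq_one_iff hF g _).1 (pow_orderOf_eq_one _))
  have hroot : ∀ T : ℕ, 0 < T → ¬ p ∣ T → ∃ z : KK, orderOf z = T := fun T hT hpT => by
    haveI : NeZero (T : KK) := ⟨fun h => hpT ((CharP.cast_eq_zero_iff KK p T).1 h)⟩
    haveI : NeZero T := ⟨hT.ne'⟩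
    obtain ⟨z, hz⟩ := HasEnoughRootsOfUnity.exists_primitiveRoot KK T
    exact ⟨z, hz.eq_orderOf.symm⟩
  have hnp : ∀ i, 1 ≤ i → ¬ p ∣ q ^ i + 1 ∧ ¬ p ∣ q ^ i - 1 := fun j hj => by
    have h1 : p ∣ q ^ j := dvd_pow hpq (by omega)
    have h2 : q ^ j = (q ^ j - 1) + 1 := (Nat.sub_add_cancel (Nat.one_le_pow _ _ (by omega))).symm
    refine ⟨fun h => hpp.not_dvd_one ((Nat.dvd_add_right h1).1 h), fun h => ?_⟩
    rw [h2] at h1
    exact hpp.not_dvd_one ((Nat.dvd_add_right h).1 h1)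
  rcases hs with ((hs | hs) | hs) | hs
  · -- `q + 1`
    obtain ⟨z, hz⟩ := hroot (q + 1) (by omega) (by simpa using (hnp 1 le_rfl).1)
    have hz0 : z ≠ 0 := fun h => by simp [h] at hz
    have hzq : z ^ q = z⁻¹ := eq_inv_of_mul_eq_one_left (by rw [← pow_succ, ← hz, pow_orderOf_eq_one])
    obtain ⟨g, hg, -⟩ := exists_elem hF p (a := z) (b := z⁻¹) (c := 1) (by simp [hz0])
      (by simp [inv_pow, hzq])
      (by rw [hqe, add_pow_char_pow, add_pow_char_pow, ← hqe]; simp [inv_pow, hzq])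
    refine ⟨_, hs.trans (low g (q + 1) fun m ⟨k, hk⟩ => ?_)⟩
    obtain ⟨h1, -, h3⟩ := scalar_roots hg hk
    rw [← hz]
    exact orderOf_dvd_of_pow_eq_one (by rw [h1, ← h3, one_pow])
  · -- `p (q + 1) / d`
    obtain ⟨z, hz⟩ := hroot (q + 1) (by omega) (by simpa using (hnp 1 le_rfl).1)
    have hz0 : z ≠ 0 := fun h => by simp [h] at hz
    have hzq : z ^ q = z⁻¹ := eq_inv_of_mul_eq_one_left (by rw [← pow_succ, ← hz, pow_orderOf_eq_one])
    obtain ⟨g, hg, hmin⟩ := exists_elem hF p (a := z) (b := z) (c := (z * z)⁻¹) (by field_simp)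
      (by simp [inv_pow, mul_pow, hzq])
      (by rw [hqe, add_pow_char_pow, add_pow_char_pow, ← hqe]; simp [inv_pow, mul_pow, hzq])
    refine ⟨_, hs.trans (low g _ fun m ⟨k, hk⟩ => ?_)⟩
    obtain ⟨h1, -, h3⟩ := scalar_roots hg hk
    rw [hpe]
    have hcop : u.Coprime p := by
      refine ((hpp.coprime_iff_not_dvd).2 fun h => (hnp 1 le_rfl).1 ?_).symm
      rw [pow_one, hu]; exact h.mul_left d
    refine hcop.mul_dvd_of_dvd_of_dvd ?_ ?_
    · have h3' : z ^ (3 * m) = 1 := by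
        rw [← h1, inv_pow, mul_pow] at h3
        rw [mul_comm 3 m, pow_mul]
        field_simp at h3
        linear_combination -h3
      have hg3 : d * u ∣ d * m := by
        rw [← hu, hd, ← Nat.gcd_mul_right 3 m (q + 1)]
        exact Nat.dvd_gcd (hz ▸ orderOf_dvd_of_pow_eq_one h3') (dvd_mul_right _ _)
      exact Nat.dvd_of_mul_dvd_mul_left hd0 hg3
    · by_contra hpm
      have hm0 : (m : KK) ≠ 0 := fun h => hpm ((CharP.cast_eq_zero_iff KK p m).1 h)
      have hP : Polynomial.aeval g.1.1 (X ^ m - C k : F[X]) = 0 := by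
        rw [map_sub, map_pow, aeval_X, aeval_C, hk, sub_self]
      have hdv := hmin _ hP
      rw [Polynomial.map_sub, Polynomial.map_pow, map_X, map_C] at hdv
      have h2 := dvd_of_mul_right_dvd hdv
      obtain ⟨R, hR⟩ := h2
      have h := congrArg (fun P : (KK)[X] => (derivative P).eval z) hR
      simp [derivative_X_pow, hm0, hz0] at h
  · -- `(q² - 1) / d`
    obtain ⟨z, hz⟩ := hroot (q ^ 2 - 1) (by have := Nat.one_lt_pow two_ne_zero (show 1 < q by omega); omega)
      (hnp 2 (by norm_num)).2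
    have hz0 : z ≠ 0 := fun h => by
      rw [h, orderOf_eq_zero_iff'.2 (fun n hn => by simp [zero_pow hn.ne'])] at hz
      have := Nat.one_lt_pow two_ne_zero (show 1 < q by omega); omega
    have hzq : (z ^ q) ^ q = z := by
      rw [← pow_mul, ← pow_two]
      conv_lhs => rw [← Nat.sub_add_cancel (Nat.one_le_pow 2 q (by omega)), pow_succ, ← hz, pow_orderOf_eq_one,
        one_mul]
    obtain ⟨g, hg, -⟩ := exists_elem hF p (a := z) (b := (z ^ q)⁻¹) (c := z ^ q / z) (by field_simp)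
      (by simp only [inv_pow, div_pow, hzq, inv_inv, inv_div]; ring)
      (by rw [hqe, add_pow_char_pow, add_pow_char_pow, ← hqe]
          simp only [inv_pow, div_pow, hzq, inv_inv, inv_div]; ring)
    refine ⟨_, hs.trans (low g _ fun m ⟨k, hk⟩ => ?_)⟩
    obtain ⟨h1, h2, h3⟩ := scalar_roots hg hk
    set w := algebraMap F KK k with hw
    have hw0 : w ≠ 0 := h1 ▸ pow_ne_zero m hz0
    rw [inv_pow, ← pow_mul, mul_comm, pow_mul, h1] at h2
    rw [div_pow, ← pow_mul, mul_comm q m, pow_mul, h1] at h3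
    have hw1 : w ^ (q + 1) = 1 := by
      rw [pow_succ]; nth_rw 2 [← h2]; exact mul_inv_cancel₀ (pow_ne_zero q hw0)
    have hw3 : w ^ 3 = 1 := by
      rw [div_eq_iff hw0] at h3
      rw [pow_succ, h3] at hw1
      rw [pow_three']; exact hw1
    obtain ⟨v, hv⟩ := hsd
    have hwd : w ^ d = 1 := hd ▸ pow_gcd_eq_one.2 ⟨hw3, hw1⟩
    rw [show (q ^ 2 - 1) / d = v by rw [hv, Nat.mul_div_cancel_left _ hd0]]
    refine Nat.dvd_of_mul_dvd_mul_left hd0 ?_
    rw [← hv, ← hz]
    exact orderOf_dvd_of_pow_eq_one (by rw [mul_comm, pow_mul, h1, hwd])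
  · -- `(q² - q + 1) / d`
    have hQ : (q ^ 2 - q + 1) + q = q ^ 2 + 1 := by omega
    have hQ3 : (q ^ 2 - q + 1) * (q + 1) = q ^ 3 + 1 := by zify [hq2]; ring
    obtain ⟨z, hz⟩ := hroot (q ^ 2 - q + 1) (by omega) (fun h => by
      have := h.mul_right (q + 1)
      rw [hQ3] at this
      exact (hnp 3 (by norm_num)).1 this)
    have hz0 : z ≠ 0 := fun h => by
      rw [h, orderOf_eq_zero_iff'.2 (fun n hn => by simp [zero_pow hn.ne'])] at hz
      omega
    have hz1 : z ^ (q ^ 2 - q + 1) = 1 := hz ▸ pow_orderOf_eq_one z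
    have hprod : z * (z ^ q)⁻¹ * z ^ (q ^ 2) = 1 := by
      field_simp
      rw [← pow_succ', ← hQ, pow_add, hz1, one_mul]
    have hz3 : (z ^ (q ^ 2)) ^ q = z⁻¹ := by
      refine eq_inv_of_mul_eq_one_left ?_
      rw [← pow_mul, ← pow_succ, show q ^ 2 * q + 1 = (q ^ 2 - q + 1) * (q + 1) by rw [hQ3]; ring, pow_mul, hz1,
        one_pow]
    have hzqq : (z ^ q) ^ q = z ^ (q ^ 2) := by rw [← pow_mul, ← pow_two]
    obtain ⟨g, hg, -⟩ := exists_elem hF p (a := z) (b := (z ^ q)⁻¹) (c := z ^ (q ^ 2)) hprod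
      (by simp only [inv_pow, hzqq, hz3, inv_inv]; ring)
      (by rw [hqe, add_pow_char_pow, add_pow_char_pow, ← hqe]
          simp only [inv_pow, hzqq, hz3, inv_inv]; ring)
    refine ⟨_, hs.trans (low g _ fun m ⟨k, hk⟩ => ?_)⟩
    obtain ⟨h1, h2, h3⟩ := scalar_roots hg hk
    set w := algebraMap F KK k with hw
    have hw0 : w ≠ 0 := h1 ▸ pow_ne_zero m hz0
    rw [inv_pow, ← pow_mul, mul_comm, pow_mul, h1] at h2
    have hw1 : w ^ (q + 1) = 1 := by
      rw [pow_succ]; nth_rw 2 [← h2]; exact mul_inv_cancel₀ (pow_ne_zero q hw0)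
    have hw3 : w ^ 3 = 1 := by
      have hp' := congrArg (· ^ m) hprod
      simp only [mul_pow, one_pow, inv_pow] at hp'
      rw [← pow_mul z q m, mul_comm q m, pow_mul, h1, h2, h3] at hp'
      rw [pow_three']; exact hp'
    obtain ⟨v, hv⟩ := hQd
    have hwd : w ^ d = 1 := hd ▸ pow_gcd_eq_one.2 ⟨hw3, hw1⟩
    rw [show (q ^ 2 - q + 1) / d = v by rw [hv, Nat.mul_div_cancel_left _ hd0]]
    refine Nat.dvd_of_mul_dvd_mul_left hd0 ?_
    rw [← hv, ← hz]
    exact orderOf_dvd_of_pow_eq_one (by rw [mul_comm, pow_mul, h1, hwd])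

end Unitary

end CfsgLib.PSU3Spectrum
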